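import Cfsg.Agent.Lib.Char.KernelSum
import Cfsg.Prelude.Def_Transfer
import Mathlib.GroupTheory.Sylow

/-!
# Irreducible characters that are nonzero on exactly two conjugacy classes
-/

namespace Cfsg.Agent.Gagola

open scoped ComplexConjugate

set_option linter.style.haveILetI false

universe u

variable {G : Type u} [Group G] [Finite G]

/-- `χ` is nonzero on exactly two classes. -/
def TwoClasses (χ : IrrCharacter G) : Prop :=
  Nat.card {C : ConjClasses G // ∃ g ∈ C.carrier, χ.1 g ≠ 0} = 2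

theorem exists_rep {χ : IrrCharacter G} (hχ : TwoClasses χ) :
    ∃ g₀ : G, g₀ ≠ 1 ∧ χ.1 g₀ ≠ 0 ∧ ∀ g, χ.1 g ≠ 0 ↔ (g = 1 ∨ IsConj g₀ g) := by
  classical
  have hcf := Char.IsCharacter.isClassFunction (Char.irr_isCharacter χ)
  have h1 := Char.IsIrrCharacter.apply_one_ne_zero χ.2
  obtain ⟨x, y, hxy, huniv⟩ := Nat.card_eq_two_iff.1 hχ
  have hmem : ∀ g : G, χ.1 g ≠ 0 →
      ConjClasses.mk g = x.1 ∨ ConjClasses.mk g = y.1 := fun g hg => by
    have : (⟨ConjClasses.mk g, g, ConjClasses.mem_carrier_mk, hg⟩ :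
      {C : ConjClasses G // ∃ g ∈ C.carrier, χ.1 g ≠ 0}) ∈ ({x, y} : Set _) := huniv ▸ Set.mem_univ _
    rcases this with h | h
    · exact Or.inl (congrArg Subtype.val h)
    · exact Or.inr (congrArg Subtype.val h)
  obtain ⟨gx, hgx, hx0⟩ := x.2
  obtain ⟨gy, hgy, hy0⟩ := y.2
  rw [ConjClasses.mem_carrier_iff_mk_eq] at hgx hgy
  have hne : ¬ IsConj gx gy := fun h =>
    hxy (Subtype.ext (by rw [← hgx, ← hgy]; exact ConjClasses.mk_eq_mk_iff_isConj.2 h))
  have key : ∀ g, χ.1 g ≠ 0 ↔ IsConj gx g ∨ IsConj gy g := fun g => by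
    refine ⟨fun hg => ?_, fun h => ?_⟩
    · rcases hmem g hg with h | h
      · exact Or.inl (ConjClasses.mk_eq_mk_iff_isConj.1 (hgx.trans h.symm))
      · exact Or.inr (ConjClasses.mk_eq_mk_iff_isConj.1 (hgy.trans h.symm))
    · rcases h with h | h
      · rwa [← Char.IsClassFunction.apply_of_isConj hcf h]
      · rwa [← Char.IsClassFunction.apply_of_isConj hcf h]
  rcases (key 1).1 h1 with h | h
  · obtain rfl : gx = 1 := isConj_one_left.1 h
    refine ⟨gy, fun h' => hne (h' ▸ IsConj.refl _), hy0, fun g => ?_⟩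
    rw [key g, isConj_one_right]
  · obtain rfl : gy = 1 := isConj_one_left.1 h
    refine ⟨gx, fun h' => hne (h' ▸ IsConj.refl _), hx0, fun g => ?_⟩
    rw [key g, isConj_one_right, or_comm]

theorem ne_trivialChar {χ : IrrCharacter G} (hG : 2 < Nat.card G) (hχ : TwoClasses χ) :
    χ ≠ Char.trivialChar G := by
  rintro rfl
  obtain ⟨g, hg, -, key⟩ := exists_rep hχ
  haveI := Fintype.ofFinite G
  classical
  have hcard := Char.card_centralizer_mul_card_conj g
  have hm : Nat.card {x : G // IsConj g x} + 1 = Nat.card G := by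
    have e : {x : G // IsConj g x} ≃ {x : G // x ≠ 1} := Equiv.subtypeEquivRight fun x =>
      ⟨fun h hx => hg (isConj_one_left.1 (hx ▸ h)), fun h => ((key x).1 (by simp)).resolve_left h⟩
    rw [Nat.card_congr e, Nat.card_eq_fintype_card, Nat.card_eq_fintype_card,
      Fintype.card_subtype_compl, Fintype.card_subtype_eq]
    have := Fintype.card_pos (α := G)
    omega
  rw [← hm] at hcard hG
  set m := Nat.card {x : G // IsConj g x}
  have : m ∣ 1 := (Nat.dvd_add_right dvd_rfl).1 (hcard ▸ Dvd.intro_left _ rfl)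
  have := Nat.dvd_one.1 this
  omega

theorem sum_mul_eq {χ : IrrCharacter G} [Fintype G] {g₀ : G}
    (hg₀ : g₀ ≠ 1) (key : ∀ g, χ.1 g ≠ 0 ↔ (g = 1 ∨ IsConj g₀ g)) {f : G → ℂ}
    (hf : IsClassFunction G f) :
    ∑ g : G, χ.1 g * f g =
      χ.1 1 * f 1 + (Nat.card {x : G // IsConj g₀ x} : ℂ) * (χ.1 g₀ * f g₀) := by
  classical
  have hcf := Char.IsCharacter.isClassFunction (Char.irr_isCharacter χ)
  rw [← Finset.add_sum_erase _ _ (Finset.mem_univ (1 : G))]
  congr 1
  rw [← Finset.sum_filter_add_sum_filter_not (Finset.univ.erase (1 : G)) (fun x => IsConj g₀ x),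
    Finset.sum_eq_zero (s := (Finset.univ.erase (1 : G)).filter fun x => ¬ IsConj g₀ x), add_zero]
  · rw [Finset.sum_congr rfl fun x hx => by
      rw [← Char.IsClassFunction.apply_of_isConj hcf (Finset.mem_filter.1 hx).2,
        ← Char.IsClassFunction.apply_of_isConj hf (Finset.mem_filter.1 hx).2],
      Finset.sum_const, nsmul_eq_mul, Nat.card_eq_fintype_card, Fintype.card_subtype]
    congr 3
    ext x
    simp only [Finset.mem_filter, Finset.mem_erase, Finset.mem_univ, and_true, true_and]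
    exact ⟨fun h => h.2, fun h => ⟨fun h' => hg₀ (isConj_one_left.1 (h' ▸ h)), h⟩⟩
  · intro x hx
    simp only [Finset.mem_filter, Finset.mem_erase, Finset.mem_univ, and_true] at hx
    by_cases h : χ.1 x = 0
    · rw [h, zero_mul]
    · rcases (key x).1 h with h' | h'
      · exact absurd h' hx.1
      · exact absurd h' hx.2

/-- Everything needed: the representative `g₀`, its class size and value, and the fact that every
other irreducible character takes its degree at `g₀`. -/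
theorem exists_data {χ : IrrCharacter G} (hG : 2 < Nat.card G) (hχ : TwoClasses χ) :
    ∃ g₀ : G, g₀ ≠ 1 ∧ (∀ g, χ.1 g ≠ 0 ↔ (g = 1 ∨ IsConj g₀ g)) ∧
      (Nat.card {x : G // IsConj g₀ x} : ℂ) * χ.1 g₀ = -χ.1 1 ∧
      ∀ ψ : IrrCharacter G, ψ ≠ χ → ψ.1 g₀ = ψ.1 1 := by
  haveI := Fintype.ofFinite G
  obtain ⟨g₀, hg₀, hv, key⟩ := exists_rep hχ
  have hsum : ∀ ψ : IrrCharacter G, ψ ≠ χ → χ.1 1 * conj (ψ.1 1) +
      (Nat.card {x : G // IsConj g₀ x} : ℂ) * (χ.1 g₀ * conj (ψ.1 g₀)) = 0 := fun ψ hψ => by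
    rw [← sum_mul_eq hg₀ key (f := fun g => conj (ψ.1 g)) (fun a b => by
      simp only [Char.IsCharacter.isClassFunction (Char.irr_isCharacter ψ) a b])]
    have h := Char.classInner_eq_zero_of_ne hψ.symm
    simpa [classInner, Char.card_ne_zero] using h
  have hmc : (Nat.card {x : G // IsConj g₀ x} : ℂ) * χ.1 g₀ = -χ.1 1 := by
    have := hsum (Char.trivialChar G) (Ne.symm (ne_trivialChar hG hχ))
    simp only [Char.trivialChar_apply, map_one, mul_one] at this
    linear_combination this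
  refine ⟨g₀, hg₀, key, hmc, fun ψ hψ => ?_⟩
  have := hsum ψ hψ
  rw [← mul_assoc, hmc] at this
  have h1 := Char.IsIrrCharacter.apply_one_ne_zero χ.2
  have h2 : conj (ψ.1 g₀) = conj (ψ.1 1) := mul_left_cancel₀ h1 (by linear_combination -this)
  simpa using congrArg conj h2

theorem faithful {χ : IrrCharacter G} (hG : 2 < Nat.card G) (hχ : TwoClasses χ) (g : G)
    (hg : χ.1 g = χ.1 1) : g = 1 := by
  obtain ⟨g₀, hg₀, key, hmc, -⟩ := exists_data hG hχ
  have h1 := Char.IsIrrCharacter.apply_one_ne_zero χ.2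
  rcases (key g).1 (hg ▸ h1) with h | h
  · exact h
  · exfalso
    have e := Char.IsClassFunction.apply_of_isConj
      (Char.IsCharacter.isClassFunction (Char.irr_isCharacter χ)) h
    rw [e, hg] at hmc
    have : ((Nat.card {x : G // IsConj g₀ x} : ℂ) + 1) * χ.1 1 = 0 := by linear_combination hmc
    rcases mul_eq_zero.1 this with h' | h'
    · exact Nat.succ_ne_zero _ (by exact_mod_cast h' : Nat.card {x : G // IsConj g₀ x} + 1 = 0)
    · exact h1 h'

/-- The subgroup on which all the other irreducible characters are trivial. -/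
def supp (χ : IrrCharacter G) : Subgroup G :=
  ⨅ ψ : {ψ : IrrCharacter G // ψ ≠ χ}, CharInt.charKernel (Char.irr_isCharacter ψ.1)

theorem mem_supp_iff {χ : IrrCharacter G} {g : G} :
    g ∈ supp χ ↔ ∀ ψ : IrrCharacter G, ψ ≠ χ → ψ.1 g = ψ.1 1 := by
  simp [supp, Subgroup.mem_iInf, CharInt.mem_charKernel]

theorem supp_normal (χ : IrrCharacter G) : (supp χ).Normal :=
  Subgroup.normal_iInf_normal fun ψ => CharInt.charKernel_normal _

theorem mem_supp {χ : IrrCharacter G} (hG : 2 < Nat.card G) (hχ : TwoClasses χ) (g : G) :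
    g ∈ supp χ ↔ χ.1 g ≠ 0 := by
  classical
  haveI := Fintype.ofFinite G
  obtain ⟨g₀, hg₀, key, hmc, hoth⟩ := exists_data hG hχ
  have h1 := Char.IsIrrCharacter.apply_one_ne_zero χ.2
  rw [mem_supp_iff]
  refine ⟨fun h => ?_, fun h ψ hψ => ?_⟩
  · rcases eq_or_ne g 1 with rfl | hg
    · exact h1
    have a := Char.sum_irr_degree_mul g
    have b := Char.sum_irr_degree_mul g₀
    rw [if_neg hg] at a
    have e : ∑ ψ ∈ Finset.univ.erase χ, ψ.1 1 * ψ.1 g₀ = ∑ ψ ∈ Finset.univ.erase χ, ψ.1 1 * ψ.1 g :=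
      Finset.sum_congr rfl fun ψ hψ => by
        rw [hoth ψ (Finset.ne_of_mem_erase hψ), h ψ (Finset.ne_of_mem_erase hψ)]
    rw [if_neg hg₀, ← a, ← Finset.add_sum_erase _ _ (Finset.mem_univ χ),
      ← Finset.add_sum_erase _ _ (Finset.mem_univ χ), e] at b
    rw [← mul_left_cancel₀ h1 (add_right_cancel b)]
    exact (key g₀).2 (Or.inr (IsConj.refl _))
  · rcases (key g).1 h with rfl | h'
    · rfl
    · rw [← Char.IsClassFunction.apply_of_isConj
        (Char.IsCharacter.isClassFunction (Char.irr_isCharacter ψ)) h', hoth ψ hψ]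

theorem isConj_of_mem_supp {χ : IrrCharacter G} (hG : 2 < Nat.card G) (hχ : TwoClasses χ)
    {x y : G} (hx : x ∈ supp χ) (hy : y ∈ supp χ) (hx1 : x ≠ 1) (hy1 : y ≠ 1) : IsConj x y := by
  obtain ⟨g₀, -, key, -, -⟩ := exists_data hG hχ
  exact (((key x).1 ((mem_supp hG hχ x).1 hx)).resolve_left hx1).symm.trans
    (((key y).1 ((mem_supp hG hχ y).1 hy)).resolve_left hy1)

theorem supp_ne_bot {χ : IrrCharacter G} (hG : 2 < Nat.card G) (hχ : TwoClasses χ) :
    supp χ ≠ ⊥ := by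
  obtain ⟨g₀, hg₀, -, -, hoth⟩ := exists_data hG hχ
  exact fun h => hg₀ (Subgroup.mem_bot.1 (h ▸ mem_supp_iff.2 hoth))

theorem supp_le_of_normal {χ : IrrCharacter G} (hG : 2 < Nat.card G) (hχ : TwoClasses χ)
    (K : Subgroup G) [hK : K.Normal] (hne : K ≠ ⊥) : supp χ ≤ K := by
  classical
  haveI := Fintype.ofFinite G
  haveI := Fintype.ofFinite K
  have h1 := Char.IsIrrCharacter.apply_one_ne_zero χ.2
  have hmeet : ∃ x ∈ K, x ≠ 1 ∧ χ.1 x ≠ 0 := by
    by_contra hno
    push Not at hno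
    obtain ⟨x, hxK, hx1⟩ : ∃ x ∈ K, x ≠ (1 : G) := by
      by_contra h'
      push Not at h'
      exact hne (eq_bot_iff.2 fun x hx => Subgroup.mem_bot.2 (h' x hx))
    by_cases ht : Char.TrivOn K χ.1
    · exact hx1 (faithful hG hχ x (ht x hxK))
    · have h0 := Char.sum_coset_eq_zero_of_not_trivOn K χ ht 1
      rw [Finset.sum_eq_single (1 : K) (fun k _ hk => by
        rw [one_mul]; exact hno k k.2 (fun e => hk (Subtype.ext e))) (by simp)] at h0
      exact h1 (by simpa using h0)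
  obtain ⟨x, hxK, hx1, hx0⟩ := hmeet
  intro y hy
  rcases eq_or_ne y 1 with rfl | hy1
  · exact one_mem K
  obtain ⟨c, hc⟩ := isConj_iff.1 (isConj_of_mem_supp hG hχ ((mem_supp hG hχ x).2 hx0) hy hx1 hy1)
  exact hc ▸ hK.conj_mem x hxK c

theorem exists_prime_supp {χ : IrrCharacter G} (hG : 2 < Nat.card G) (hχ : TwoClasses χ) :
    ∃ p : ℕ, p.Prime ∧ IsElementaryAbelian p (supp χ) := by
  haveI := supp_normal χ
  set N := supp χ with hN
  obtain ⟨p, hp, hpd⟩ := Nat.exists_prime_and_dvd (n := Nat.card N)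
    fun h => supp_ne_bot hG hχ (N.eq_bot_of_card_eq h)
  haveI := Fact.mk hp
  obtain ⟨x, hx⟩ := exists_prime_orderOf_dvd_card' p hpd
  have hx1 : (x : G) ≠ 1 := by
    intro h
    have := OneMemClass.coe_eq_one.1 h
    rw [this, orderOf_one] at hx
    exact hp.one_lt.ne hx
  have hexp : ∀ a ∈ N, a ^ p = 1 := fun a ha => by
    rcases eq_or_ne a 1 with rfl | ha1
    · exact one_pow p
    obtain ⟨c, hc⟩ := isConj_iff.1 (isConj_of_mem_supp hG hχ x.2 ha hx1 ha1)
    have hxp : (x : G) ^ p = 1 := by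
      rw [← SubmonoidClass.coe_pow, ← hx, pow_orderOf_eq_one]; rfl
    rw [← hc, conj_pow, hxp, mul_one, mul_inv_cancel]
  have hP : IsPGroup p N := fun a => ⟨1, Subtype.ext (by simpa using hexp a a.2)⟩
  haveI : Nontrivial N := (Subgroup.nontrivial_iff_ne_bot N).2 (supp_ne_bot hG hχ)
  obtain ⟨z, hz⟩ := @exists_ne (Subgroup.center N) (IsPGroup.center_nontrivial hP) 1
  have hne : N ⊓ Subgroup.centralizer (N : Set G) ≠ ⊥ := fun h => hz (Subtype.ext (Subtype.ext
    (Subgroup.mem_bot.1 (h ▸ (⟨z.1.2, Subgroup.mem_centralizer_iff.2 fun a ha =>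
      congrArg Subtype.val (Subgroup.mem_center_iff.1 z.2 ⟨a, ha⟩)⟩ :
        (z.1 : G) ∈ N ⊓ Subgroup.centralizer (N : Set G))))))
  have hle := supp_le_of_normal hG hχ (N ⊓ Subgroup.centralizer (N : Set G)) hne
  exact ⟨p, hp, ⟨⟨fun a b => Subtype.ext
    (Subgroup.mem_centralizer_iff.1 (hle b.2).2 a a.2)⟩⟩, hexp⟩

end Cfsg.Agent.Gagola
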