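import Cfsg.Agent.Lib.Gagola.Sylow
import Cfsg.Agent.Lib.CharInt.FrobeniusKernel
import Cfsg.Agent.Lib.Coprime.Lift
import Cfsg.Agent.Lib.Involution.BaerSuzuki
import Cfsg.Agent.Lib.PCore.Basic
import Mathlib.GroupTheory.SchurZassenhaus
import Mathlib.Algebra.Group.Subgroup.Pointwise

/-!
# Two-class characters: the support is `O_p(G)` iff the group is a doubly transitive Frobenius group

Outside the support `N` every coset of `N` lies in one class, so the elements of order prime to `p`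
act fixed-point-freely on `N`; an involution then splits `N` off (`p` odd) or gives an involution
outside `N` (`p = 2`), and both are impossible unless `#G = #N (#N - 1)`.
-/

set_option linter.unusedSectionVars false
set_option linter.style.haveILetI false

namespace Cfsg.Agent.Gagola

open Cfsg
open scoped Pointwise

universe u

variable {G : Type u} [Group G] [Finite G]

/-- The facts used below: `N` is abelian of exponent `p` and cosets outside `N` lie in one class. -/
structure Camina (N : Subgroup G) (p : ℕ) : Prop where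
  ne_bot : N ≠ ⊥
  exp : ∀ n ∈ N, n ^ p = 1
  comm : ∀ m ∈ N, ∀ n ∈ N, m * n = n * m
  conj : ∀ y : G, y ∉ N → ∀ n ∈ N, IsConj y (y * n)

theorem camina {χ : IrrCharacter G} (hG : 2 < Nat.card G) (hχ : TwoClasses χ) {p : ℕ}
    [hp : Fact p.Prime] {N : Subgroup G} (hN : ∀ g : G, g ∈ N ↔ χ.1 g ≠ 0) (hNp : IsPGroup p N)
    (hN1 : N ≠ ⊥) : Camina N p := by
  classical
  haveI := Fintype.ofFinite G
  have hsupp := eq_supp hG hχ hN
  obtain ⟨q, hq, hE⟩ := exists_prime_supp hG hχ
  rw [← hsupp] at hE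
  obtain ⟨x, hx, hx1⟩ := (Subgroup.bot_or_exists_ne_one N).resolve_left hN1
  have hqp : q = p := by
    obtain ⟨k, hk⟩ := IsPGroup.iff_orderOf.1 hNp ⟨x, hx⟩
    rw [Subgroup.orderOf_mk] at hk
    have hox : orderOf x = q := by
      haveI := Fact.mk hq
      exact orderOf_eq_prime (hE.2 x hx) hx1
    rw [hox] at hk
    exact (Nat.prime_dvd_prime_iff_eq hq hp.out).1 (hq.dvd_of_dvd_pow (dvd_of_eq hk))
  subst hqp
  refine ⟨hN1, hE.2, fun m hm n hn => congrArg Subtype.val (hE.1.1.1 ⟨m, hm⟩ ⟨n, hn⟩), ?_⟩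
  intro y hy n hn
  refine (Char.isConj_iff_forall_irr _ _).2 fun ψ => ?_
  by_cases hψ : ψ = χ
  · subst hψ
    have h1 : ψ.1 y = 0 := not_not.1 ((hN y).not.1 hy)
    have h2 : ψ.1 (y * n) = 0 :=
      not_not.1 ((hN _).not.1 fun h => hy (by simpa using mul_mem h (inv_mem hn)))
    rw [h1, h2]
  · have hc := Char.irr_isCharacter ψ
    rw [CharInt.char_mul_comm hc, CharInt.char_mul_of_mem_kernel hc
      (mem_supp_iff.1 (hsupp ▸ hn) ψ hψ)]

variable {N : Subgroup G} [hNn : N.Normal] {p : ℕ} [hp : Fact p.Prime]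

theorem Camina.fpf (h : Camina N p) {g n : G} (hg : g ∉ N) (hcop : (orderOf g).Coprime p)
    (hn : n ∈ N) (hc : Commute g n) : n = 1 := by
  by_contra hn1
  have ho : orderOf n = p := orderOf_eq_prime (h.exp n hn) hn1
  obtain ⟨c, hc'⟩ := isConj_iff.1 (h.conj g hg n hn)
  have h1 : orderOf (g * n) = orderOf g := by
    rw [← hc']; exact (MulAut.conj c).orderOf_eq g
  rw [hc.orderOf_mul_eq_mul_orderOf_of_coprime (by rwa [ho]), ho] at h1
  exact hp.out.one_lt.ne' ((Nat.mul_eq_left (orderOf_pos g).ne').1 h1)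

theorem Camina.centralizer_eq (h : Camina N p) (hO : ∀ M : Subgroup G, M.Normal → IsPGroup p M → M ≤ N) :
    Subgroup.centralizer (N : Set G) = N := by
  have hKn : (Subgroup.centralizer (N : Set G)).Normal := inferInstance
  refine le_antisymm (hO _ hKn (IsPGroup.iff_orderOf.2 fun z => ?_)) fun m hm => ?_
  · obtain ⟨k, r, hr, hord⟩ :=
      Nat.exists_eq_pow_mul_and_not_dvd (orderOf_pos (z : G)).ne' p hp.out.ne_one
    refine ⟨k, ?_⟩
    have ho : orderOf ((z : G) ^ p ^ k) = r := by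
      rw [orderOf_pow, hord, Nat.gcd_mul_right_left,
        Nat.mul_div_cancel_left _ (pow_pos hp.out.pos k)]
    rw [← Subgroup.orderOf_coe, hord]
    rcases eq_or_ne r 1 with hr1 | hr1
    · rw [hr1, mul_one]
    · exfalso
      have hgN : (z : G) ^ p ^ k ∉ N := fun hm => by
        have h1 : r ∣ p := ho ▸ orderOf_dvd_of_pow_eq_one (h.exp _ hm)
        rcases (Nat.dvd_prime hp.out).1 h1 with h2 | h2
        · exact hr1 h2
        · exact hr (h2 ▸ dvd_rfl)
      obtain ⟨n, hn, hn1⟩ := (Subgroup.bot_or_exists_ne_one N).resolve_left h.ne_bot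
      refine hn1 (h.fpf hgN ?_ hn ?_)
      · rw [ho]; exact ((Nat.Prime.coprime_iff_not_dvd hp.out).2 hr).symm
      · exact (show Commute (z : G) n from
          ((Subgroup.mem_centralizer_iff.1 z.2) n hn).symm).pow_left _
  · exact Subgroup.mem_centralizer_iff.2 fun n hn => h.comm n hn m hm

/-- A complement of `N` contains no element of order `p`. -/
theorem Camina.not_dvd_card_complement (h : Camina N p)
    (hK : Subgroup.centralizer (N : Set G) = N) {C : Subgroup G} (hdisj : N ⊓ C = ⊥)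
    (hfac : ∀ g : G, ∃ n ∈ N, ∃ c ∈ C, g = n * c) : ¬ p ∣ Nat.card C := by
  intro hdvd
  obtain ⟨y, hy⟩ := exists_prime_orderOf_dvd_card' (G := C) p hdvd
  rw [← Subgroup.orderOf_coe] at hy
  have hy1 : (y : G) ≠ 1 := fun he => by rw [he, orderOf_one] at hy; exact hp.out.one_lt.ne hy
  have hyN : (y : G) ∉ N := fun hm => hy1 (Subgroup.mem_bot.1 (hdisj ▸ Subgroup.mem_inf.2 ⟨hm, y.2⟩))
  let φ : N → N := fun n => ⟨(y : G)⁻¹ * (n : G) * y * (n : G)⁻¹,
    mul_mem (by simpa using hNn.conj_mem _ n.2 (y : G)⁻¹) (inv_mem n.2)⟩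
  have hsurj : Function.Surjective φ := by
    intro n
    obtain ⟨g, hg⟩ := isConj_iff.1 (h.conj _ hyN n n.2)
    obtain ⟨m, hm, c, hc, rfl⟩ := hfac g
    have hcy : c * y * c⁻¹ ∈ C := mul_mem (mul_mem hc y.2) (inv_mem hc)
    have hmem : (y : G)⁻¹ * (c * y * c⁻¹) ∈ N := by
      have he : (y : G)⁻¹ * (c * y * c⁻¹) =
          ((y : G)⁻¹ * m⁻¹ * y) * ((y : G)⁻¹ * (m * c * y * (m * c)⁻¹)) * m := by group
      rw [he, hg, inv_mul_cancel_left]
      exact mul_mem (mul_mem (by simpa using hNn.conj_mem _ (inv_mem hm) (y : G)⁻¹) n.2) hm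
    have heq : c * y * c⁻¹ = y := (inv_mul_eq_one.1 (Subgroup.mem_bot.1
      (hdisj ▸ Subgroup.mem_inf.2 ⟨hmem, mul_mem (inv_mem y.2) hcy⟩))).symm
    refine ⟨⟨m, hm⟩, Subtype.ext ?_⟩
    show (y : G)⁻¹ * m * y * m⁻¹ = n
    have hg' : m * (c * y * c⁻¹) * m⁻¹ = y * n := by rw [← hg]; group
    rw [heq] at hg'
    rw [eq_inv_mul_iff_mul_eq.2 hg'.symm]; group
  have hinj := Finite.injective_iff_surjective.2 hsurj
  -- `N ⊔ ⟨y⟩` is a `p`-group, so its centre meets `N`
  set P := N ⊔ Subgroup.zpowers (y : G)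
  have hNp : IsPGroup p N := fun a => ⟨1, Subtype.ext (by simpa using h.exp a a.2)⟩
  have hP : IsPGroup p P :=
    IsPGroup.to_sup_of_normal_left hNp (IsPGroup.of_card (n := 1) (by rw [Nat.card_zpowers, hy, pow_one]))
  haveI : Nontrivial P := by
    obtain ⟨n, hn, hn1⟩ := (Subgroup.bot_or_exists_ne_one N).resolve_left h.ne_bot
    exact ⟨⟨⟨n, Subgroup.mem_sup_left hn⟩, 1, fun he => hn1 (congrArg Subtype.val he)⟩⟩
  obtain ⟨z, hz⟩ := @exists_ne (Subgroup.center P) (IsPGroup.center_nontrivial hP) 1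
  have hzc : ∀ x : P, x * z.1 = z.1 * x := Subgroup.mem_center_iff.1 z.2
  have hzN : ((z : P) : G) ∈ N := by
    rw [← hK, Subgroup.mem_centralizer_iff]
    exact fun n hn => congrArg Subtype.val (hzc ⟨n, Subgroup.mem_sup_left hn⟩)
  have hzy : (y : G) * ((z : P) : G) = ((z : P) : G) * y :=
    congrArg Subtype.val (hzc ⟨y, Subgroup.mem_sup_right (Subgroup.mem_zpowers _)⟩)
  have : φ ⟨_, hzN⟩ = φ 1 := Subtype.ext (by
    show (y : G)⁻¹ * ((z : P) : G) * y * ((z : P) : G)⁻¹ = (y : G)⁻¹ * ((1 : N) : G) * y * ((1 : N) : G)⁻¹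
    rw [mul_assoc _ ((z : P) : G) (y : G), ← hzy]; simp)
  exact hz (Subtype.ext (Subtype.ext (congrArg (fun u : N => (u : G)) (hinj this))))

/-- For odd `p` an involution gives a complement. -/
theorem Camina.exists_complement_of_odd (h : Camina N p)
    (hK : Subgroup.centralizer (N : Set G) = N) (hp2 : p ≠ 2) {t : G} (ht : orderOf t = 2) :
    ∃ C : Subgroup G, N ⊓ C = ⊥ ∧ ∀ g : G, ∃ n ∈ N, ∃ c ∈ C, g = n * c := by
  have hcop : (2 : ℕ).Coprime p := (Nat.coprime_primes Nat.prime_two hp.out).2 (Ne.symm hp2)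
  have ht2 : t * t = 1 := by rw [← sq, ← ht]; exact pow_orderOf_eq_one t
  have hinv : ∀ {s : G}, orderOf s = 2 → ∀ n ∈ N, s * n * s⁻¹ = n⁻¹ := by
    intro s hs n hn
    have hs2 : s * s = 1 := by rw [← sq, ← hs]; exact pow_orderOf_eq_one s
    have hsN : s ∉ N := fun hm => by
      have h1 : 2 ∣ p := hs ▸ orderOf_dvd_of_pow_eq_one (h.exp s hm)
      exact hp2 ((Nat.prime_dvd_prime_iff_eq Nat.prime_two hp.out).1 h1).symm
    have hmem : s * n * s⁻¹ ∈ N := hNn.conj_mem n hn s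
    have hsinv : s⁻¹ = s := inv_eq_of_mul_eq_one_right hs2
    refine eq_inv_of_mul_eq_one_left (h.fpf hsN (hs ▸ hcop) (mul_mem hmem hn) ?_)
    show s * (s * n * s⁻¹ * n) = s * n * s⁻¹ * n * s
    rw [hsinv, show s * (s * n * s * n) = n * (s * n) by
      rw [← mul_assoc, ← mul_assoc, ← mul_assoc, hs2, one_mul, mul_assoc],
      show s * n * s * n * s = (s * n * s) * (n * s) by group]
    rw [hsinv] at hmem
    rw [show n * (s * n) = n * (s * n * s) * s by
      rw [mul_assoc n _ s, mul_assoc (s * n) s s, hs2, mul_one], h.comm n hn _ hmem]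
    group
  refine ⟨Subgroup.centralizer ({t} : Set G), ?_, fun g => ?_⟩
  · rw [eq_bot_iff]
    intro n hnc
    obtain ⟨hn, hc⟩ := Subgroup.mem_inf.1 hnc
    rw [Subgroup.mem_centralizer_singleton_iff] at hc
    refine Subgroup.mem_bot.2 (h.fpf ?_ (ht ▸ hcop) hn (show t * n = n * t from hc.symm))
    intro hm
    have h1 : 2 ∣ p := ht ▸ orderOf_dvd_of_pow_eq_one (h.exp t hm)
    exact hp2 ((Nat.prime_dvd_prime_iff_eq Nat.prime_two hp.out).1 h1).symm
  · have hs : orderOf (g * t * g⁻¹) = 2 := by rw [← ht]; exact (MulAut.conj g).orderOf_eq t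
    have hmem : t⁻¹ * (g * t * g⁻¹) ∈ N := by
      rw [← hK, Subgroup.mem_centralizer_iff]
      intro n hn
      have e1 : (g * t * g⁻¹) * n = n⁻¹ * (g * t * g⁻¹) := mul_inv_eq_iff_eq_mul.1 (hinv hs n hn)
      have e2 : t * n * t⁻¹ = n⁻¹ := hinv ht n hn
      have e3 : n * t⁻¹ = t⁻¹ * n⁻¹ := by rw [← e2]; group
      rw [← mul_assoc, e3, mul_assoc, ← e1, ← mul_assoc, ← mul_assoc]
    set n := t⁻¹ * (g * t * g⁻¹) with hn
    obtain ⟨k, hk⟩ : ∃ k, p = 2 * k + 1 := (hp.out.eq_two_or_odd').resolve_left hp2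
    have hmk : n ^ k ∈ N := pow_mem hmem k
    refine ⟨n ^ k, hmk, (n ^ k)⁻¹ * g, ?_, (mul_inv_cancel_left _ _).symm⟩
    have e2 : n ^ k * t * (n ^ k)⁻¹ = g * t * g⁻¹ := by
      have h2 : t * n = g * t * g⁻¹ := by rw [hn, mul_inv_cancel_left]
      have h3 : n ^ k * t = t * (n ^ k)⁻¹ := by
        rw [← hinv ht _ hmk]
        conv_rhs => rw [← mul_assoc, ← mul_assoc, ht2, one_mul,
          show t⁻¹ = t from inv_eq_of_mul_eq_one_right ht2]
      rw [h3, mul_assoc, ← mul_inv_rev, ← pow_add, ← h2]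
      congr 1
      rw [inv_eq_iff_mul_eq_one, ← pow_succ, show k + k + 1 = p by omega, h.exp n hmem]
    rw [Subgroup.mem_centralizer_singleton_iff]
    calc (n ^ k)⁻¹ * g * t = (n ^ k)⁻¹ * (g * t * g⁻¹) * g := by group
      _ = (n ^ k)⁻¹ * (n ^ k * t * (n ^ k)⁻¹) * g := by rw [e2]
      _ = t * ((n ^ k)⁻¹ * g) := by group

/-- For `p = 2` the quotient by `N` has odd order. -/
theorem Camina.not_even_index (h : Camina N 2) (hK : Subgroup.centralizer (N : Set G) = N)
    (hO : ∀ M : Subgroup G, M.Normal → IsPGroup 2 M → M ≤ N) : ¬ 2 ∣ N.index := by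
  intro hdvd
  haveI : Fact (Nat.Prime 2) := ⟨Nat.prime_two⟩
  haveI := hNn
  obtain ⟨a, ha⟩ := exists_prime_orderOf_dvd_card' (G := G ⧸ N) 2 (by rwa [← Subgroup.index_eq_card])
  have hNp : IsPGroup 2 N := fun n => ⟨1, Subtype.ext (by simpa using h.exp n n.2)⟩
  set S : Set (G ⧸ N) := {b | IsConj a b}
  -- two conjugates of `a` whose product is not a 2-element
  obtain ⟨b, b', hb, hb', hnp⟩ : ∃ b b', b ∈ S ∧ b' ∈ S ∧
      ¬ IsPGroup 2 (Subgroup.closure ({b, b'} : Set (G ⧸ N))) := by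
    by_contra! hall
    have hcl := Involution.baer_suzuki_set S (fun g c hc => hc.trans (isConj_iff.2 ⟨g, rfl⟩))
      fun x hx y hy => hall x y hx hy
    haveI : (Subgroup.closure S).Normal := ⟨fun x hx g => by
      have hmap : (Subgroup.closure S).map (MulAut.conj g).toMonoidHom ≤ Subgroup.closure S := by
        rw [MonoidHom.map_closure]
        refine Subgroup.closure_mono ?_
        rintro _ ⟨y, hy, rfl⟩
        exact IsConj.trans hy (isConj_iff.2 ⟨g, rfl⟩)
      simpa using hmap (Subgroup.mem_map_of_mem _ hx)⟩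
    have hker : IsPGroup 2 (QuotientGroup.mk' N).ker := by rw [QuotientGroup.ker_mk']; exact hNp
    have hle := hO _ (Subgroup.Normal.comap inferInstance (QuotientGroup.mk' N))
      (hcl.comap_of_ker_isPGroup _ hker)
    obtain ⟨g, rfl⟩ := QuotientGroup.mk_surjective a
    have : g ∈ N := hle (Subgroup.mem_comap.2 (Subgroup.subset_closure (IsConj.refl _)))
    rw [(QuotientGroup.eq_one_iff g).2 this, orderOf_one] at ha
    omega
  have hinvol : ∀ {x : G ⧸ N}, x ∈ S → x * x = 1 := fun {x} hx => by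
    obtain ⟨c, rfl⟩ := isConj_iff.1 hx
    rw [← sq, conj_pow, ← ha, pow_orderOf_eq_one, mul_one, mul_inv_cancel]
  have hb2 := hinvol hb
  have hb'2 := hinvol hb'
  set z := b * b' with hz
  have hbinv : b⁻¹ = b := inv_eq_of_mul_eq_one_right hb2
  have hb'inv : b'⁻¹ = b' := inv_eq_of_mul_eq_one_right hb'2
  have hzinv : b * z * b⁻¹ = z⁻¹ := by
    rw [hz, mul_inv_rev, hb'inv, hbinv, ← mul_assoc, hb2, one_mul]
  obtain ⟨k, r, hr, hord⟩ := Nat.exists_eq_pow_mul_and_not_dvd (orderOf_pos z).ne' 2 (by norm_num)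
  have hr1 : r ≠ 1 := by
    rintro rfl
    rw [mul_one] at hord
    apply hnp
    have hle : Subgroup.closure ({b, b'} : Set (G ⧸ N)) ≤ Subgroup.zpowers b ⊔ Subgroup.zpowers z := by
      rw [Subgroup.closure_le]
      rintro w (rfl | rfl)
      · exact Subgroup.mem_sup_left (Subgroup.mem_zpowers _)
      · have : w = b⁻¹ * z := by rw [hz, inv_mul_cancel_left]
        rw [this]
        exact mul_mem (inv_mem (Subgroup.mem_sup_left (Subgroup.mem_zpowers _)))
          (Subgroup.mem_sup_right (Subgroup.mem_zpowers _))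
    refine IsPGroup.to_le ?_ hle
    refine IsPGroup.to_sup_of_normal_right' ?_
      (IsPGroup.of_card (n := k) (by rw [Nat.card_zpowers, hord])) ?_
    · obtain ⟨i, -, hi⟩ := (Nat.dvd_prime_pow Nat.prime_two).1
        (orderOf_dvd_of_pow_eq_one (show b ^ 2 ^ 1 = 1 by rw [pow_one, sq, hb2]))
      exact IsPGroup.of_card (n := i) (by rw [Nat.card_zpowers, hi])
    · rw [Subgroup.zpowers_le]
      have hb'' : ∀ w ∈ Subgroup.zpowers z, b * w * b⁻¹ ∈ Subgroup.zpowers z := by
        rintro _ ⟨j, rfl⟩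
        show b * z ^ j * b⁻¹ ∈ _
        rw [← conj_zpow, hzinv]
        exact zpow_mem (inv_mem (Subgroup.mem_zpowers z)) j
      refine Subgroup.mem_normalizer_iff.2 fun w => ⟨hb'' w, fun hw => ?_⟩
      have := hb'' _ hw
      simpa [hbinv, mul_assoc, hb2, ← mul_assoc b b] using this
  -- lift the odd part
  set cb := z ^ 2 ^ k with hcb
  have hcbo : orderOf cb = r := by
    rw [hcb, orderOf_pow, hord, Nat.gcd_mul_right_left,
      Nat.mul_div_cancel_left _ (pow_pos two_pos k)]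
  have hrcop : r.Coprime 2 := (Nat.coprime_two_left.2 (Nat.odd_iff.2 (by omega))).symm
  obtain ⟨j, hj⟩ := hNp.exists_card_eq
  obtain ⟨c, hc, hco⟩ := Coprime.exists_orderOf_lift N cb (by rw [hcbo, hj]; exact hrcop.pow_right j)
  have hcN : c ∉ N := fun hm => hr1 (by
    rw [← hcbo, ← hc, (QuotientGroup.eq_one_iff c).2 hm, orderOf_one])
  have hcfpf : ∀ n ∈ N, Commute c n → n = 1 :=
    fun n hn hn' => h.fpf hcN (by rw [hco, hcbo]; exact hrcop) hn hn'
  obtain ⟨y, rfl⟩ := QuotientGroup.mk_surjective b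
  have hinvbar : ((y * c * y⁻¹ : G) : G ⧸ N) = ((c⁻¹ : G) : G ⧸ N) := by
    rw [QuotientGroup.mk_mul, QuotientGroup.mk_mul, QuotientGroup.mk_inv, QuotientGroup.mk_inv, hc,
      hcb, ← conj_pow, hzinv, inv_pow]
  have hn₀ : c * (y * c * y⁻¹) ∈ N := by
    simpa using QuotientGroup.eq.1 hinvbar.symm
  -- `w ↦ c w c⁻¹ w⁻¹` is onto `N`
  let ψ : N → N := fun w => ⟨c * (w : G) * c⁻¹ * (w : G)⁻¹,
    mul_mem (hNn.conj_mem _ w.2 c) (inv_mem w.2)⟩
  have hψ : Function.Surjective ψ := by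
    refine Finite.injective_iff_surjective.1 fun u v huv => ?_
    have e : c * (u : G) * c⁻¹ * (u : G)⁻¹ = c * (v : G) * c⁻¹ * (v : G)⁻¹ := congrArg Subtype.val huv
    refine Subtype.ext (inv_mul_eq_one.1 (hcfpf _ (mul_mem (inv_mem v.2) u.2) ?_)).symm
    have e' : c * (u : G) * c⁻¹ = c * (v : G) * c⁻¹ * (v : G)⁻¹ * u := by rw [← e]; group
    show c * ((v : G)⁻¹ * u) = (v : G)⁻¹ * u * c
    rw [show c * ((v : G)⁻¹ * u) = (c * (v : G) * c⁻¹)⁻¹ * (c * (u : G) * c⁻¹) * c by group, e']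
    group
  obtain ⟨w, hw⟩ := hψ ⟨_, hn₀⟩
  have hw' : c * (w : G) * c⁻¹ * (w : G)⁻¹ = c * (y * c * y⁻¹) := congrArg Subtype.val hw
  set y' := (w : G)⁻¹ * y with hy'
  have hy'c : y' * c * y'⁻¹ = c⁻¹ := by
    have e : y * c * y⁻¹ = (w : G) * c⁻¹ * (w : G)⁻¹ := by
      rw [mul_assoc c, mul_assoc c] at hw'
      exact (mul_left_cancel hw').symm.trans (by group)
    rw [hy', show (w : G)⁻¹ * y * c * ((w : G)⁻¹ * y)⁻¹ = (w : G)⁻¹ * (y * c * y⁻¹) * w by group, e]
    group
  have hy'bar : (y' : G ⧸ N) = (y : G ⧸ N) := by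
    rw [hy', QuotientGroup.mk_mul, (QuotientGroup.eq_one_iff _).2 (inv_mem w.2), one_mul]
  have hsqN : y' * y' ∈ N := by
    rw [← QuotientGroup.eq_one_iff, QuotientGroup.mk_mul, hy'bar, hb2]
  have hsq : y' * y' = 1 := by
    refine hcfpf _ hsqN ?_
    show c * (y' * y') = y' * y' * c
    have e1 : y' * c = c⁻¹ * y' := mul_inv_eq_iff_eq_mul.1 hy'c
    have e2 : y' * c⁻¹ = c * y' := by
      have := congrArg (fun x => c * x * c⁻¹) e1
      simpa [mul_assoc] using this.symm
    calc c * (y' * y') = c * y' * y' := (mul_assoc _ _ _).symm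
      _ = y' * c⁻¹ * y' := by rw [← e2]
      _ = y' * (c⁻¹ * y') := mul_assoc _ _ _
      _ = y' * (y' * c) := by rw [← e1]
      _ = y' * y' * c := (mul_assoc _ _ _).symm
  have hy'N : y' ∉ N := fun hm => by
    have h1 : (y : G ⧸ N) = 1 := hy'bar ▸ (QuotientGroup.eq_one_iff _).2 hm
    obtain ⟨g, hg⟩ := isConj_iff.1 hb
    rw [h1, conj_eq_one_iff] at hg
    rw [hg, orderOf_one] at ha
    omega
  refine hy'N ?_
  rw [← hK, Subgroup.mem_centralizer_iff]
  intro n hn
  obtain ⟨g, hg⟩ := isConj_iff.1 (h.conj y' hy'N n hn)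
  have h2 : (y' * n) * (y' * n) = 1 := by
    rw [← hg, ← sq, conj_pow, sq, hsq, mul_one, mul_inv_cancel]
  have hn2 : n * n = 1 := by rw [← sq]; exact h.exp n hn
  have h3 : y' * n * y' = n := by
    rw [← mul_assoc (y' * n) y' n] at h2
    exact (eq_inv_of_mul_eq_one_left h2).trans (inv_eq_of_mul_eq_one_right hn2)
  calc n * y' = y' * n * y' * y' := by rw [h3]
    _ = y' * n := by rw [mul_assoc _ y' y', hsq, mul_one]

/-- A two-class character's support is `O_p(G)` iff `G` is a doubly transitive Frobenius group. -/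
theorem eq_pCore_iff {χ : IrrCharacter G} (hG : 2 < Nat.card G) (hχ : TwoClasses χ)
    (hN : ∀ g : G, g ∈ N ↔ χ.1 g ≠ 0) (hNp : IsPGroup p N) (hN1 : N ≠ ⊥) :
    N = pCore p G ↔ ∃ H : Subgroup G, IsFrobeniusComplement H ∧
      frobeniusKernel H = (N : Set G) ∧ Nat.card H + 1 = Nat.card N := by
  obtain ⟨a, b, ha0, ha, -, hcard, -⟩ := exists_arith hG hχ N hN hNp hN1
  have hq : 1 < p ^ a := Nat.one_lt_pow ha0.ne' hp.out.one_lt
  have hcopq : (p ^ a).Coprime (p ^ a - 1) := by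
    refine Nat.Coprime.symm ?_
    have h1 := Nat.coprime_self_sub_right (m := 1) (n := p ^ a) hq.le
    exact (h1.2 (Nat.coprime_one_right _)).symm
  constructor
  · intro hNO
    have hO : ∀ M : Subgroup G, M.Normal → IsPGroup p M → M ≤ N := fun M _ hMp => by
      rw [hNO]; exact PCore.le_pCore hMp
    have hCam := camina hG hχ hN hNp hN1
    have hK := hCam.centralizer_eq hO
    have hidx : N.index = p ^ (2 * b) * (p ^ a - 1) := by
      refine Nat.eq_of_mul_eq_mul_right (Nat.card_pos (α := N)) ?_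
      rw [Subgroup.index_mul_card, hcard, ha]; ring
    have hb : b = 0 := by
      by_contra hb
      have hpidx : p ∣ N.index := hidx ▸ Dvd.dvd.mul_right (dvd_pow_self p (by omega)) _
      by_cases hp2 : p = 2
      · subst hp2; exact hCam.not_even_index hK hO hpidx
      · have h2 : 2 ∣ Nat.card G := by
          rw [hcard]
          refine dvd_mul_of_dvd_right ?_ _
          obtain ⟨k, hk⟩ : Odd (p ^ a) := (hp.out.odd_of_ne_two hp2).pow
          exact ⟨k, by omega⟩
        haveI : Fact (Nat.Prime 2) := ⟨Nat.prime_two⟩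
        obtain ⟨t, ht⟩ := exists_prime_orderOf_dvd_card' (G := G) 2 h2
        obtain ⟨C, hdisj, hfac⟩ := hCam.exists_complement_of_odd hK hp2 ht
        refine hCam.not_dvd_card_complement hK hdisj hfac ?_
        have hcompl : Subgroup.IsComplement' N C := by
          refine Subgroup.isComplement'_of_disjoint_and_mul_eq_univ (disjoint_iff.2 hdisj) ?_
          exact Set.eq_univ_of_forall fun g => by
            obtain ⟨n, hn, c, hc, rfl⟩ := hfac g
            exact Set.mul_mem_mul hn hc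
        rwa [← hcompl.symm.index_eq_card]
    rw [hb, mul_zero, pow_zero, one_mul] at hidx
    obtain ⟨H, hH⟩ := Subgroup.exists_right_complement'_of_coprime (N := N)
      (by rw [ha, hidx]; exact hcopq)
    have hHcard : Nat.card H = p ^ a - 1 := by rw [← hH.symm.index_eq_card, hidx]
    have hcopH : ∀ x ∈ H, (orderOf x).Coprime p := fun x hx => by
      have h1 : (orderOf x).Coprime (p ^ a) :=
        hcopq.symm.coprime_dvd_left (hHcard ▸ H.orderOf_dvd_natCard hx)
      exact (Nat.coprime_pow_right_iff ha0 _ _).1 h1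
    have hdisj : ∀ x, x ∈ N → x ∈ H → x = 1 := fun x h1 h2 =>
      Subgroup.mem_bot.1 (disjoint_iff.1 hH.disjoint ▸ Subgroup.mem_inf.2 ⟨h1, h2⟩)
    have hfac : ∀ g : G, ∃ n ∈ N, ∃ c ∈ H, g = n * c := fun g => by
      obtain ⟨⟨⟨n, hn⟩, ⟨c, hc⟩⟩, rfl⟩ := hH.2 g
      exact ⟨n, hn, c, hc, rfl⟩
    have hmemconj : ∀ x g : G, x ∈ MulAut.conj g • H ↔ g⁻¹ * x * g ∈ H := fun x g => by
      rw [Subgroup.mem_pointwise_smul_iff_inv_smul_mem, MulAut.smul_def, MulAut.conj_inv_apply]
    refine ⟨H, ⟨?_, ?_, fun g hg => ?_⟩, ?_, by omega⟩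
    · intro hbot
      rw [hbot, Subgroup.card_bot] at hHcard
      have : Nat.card G = 2 := by
        rw [hcard, hb, mul_zero, pow_zero, one_mul, ← hHcard]; omega
      omega
    · intro htop
      rw [htop, Subgroup.card_top, hcard, hb, mul_zero, pow_zero, one_mul] at hHcard
      have h1 : p ^ a = 1 := Nat.eq_of_mul_eq_mul_right (by omega : 0 < p ^ a - 1)
        (hHcard.trans (one_mul _).symm)
      omega
    · rw [eq_bot_iff]
      intro x hxx
      obtain ⟨hx, hx'⟩ := Subgroup.mem_inf.1 hxx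
      rw [hmemconj] at hx'
      obtain ⟨n, hn, c, hc, rfl⟩ := hfac g
      rw [Subgroup.mem_bot]
      by_contra hx1
      set x'' := c * ((n * c)⁻¹ * x * (n * c)) * c⁻¹ with hx''
      have hx''H : x'' ∈ H := mul_mem (mul_mem hc hx') (inv_mem hc)
      have e : x'' = n⁻¹ * x * n := by rw [hx'']; group
      have h1 : x⁻¹ * x'' ∈ N := by
        rw [e, show x⁻¹ * (n⁻¹ * x * n) = x⁻¹ * n⁻¹ * x * n by group]
        exact mul_mem (by simpa using hNn.conj_mem _ (inv_mem hn) x⁻¹) hn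
      have h2 : x = x'' := inv_mul_eq_one.1 (hdisj _ h1 (mul_mem (inv_mem hx) hx''H))
      have hxn : Commute x n := by
        show x * n = n * x
        conv_rhs => rw [h2, e, mul_assoc n⁻¹, mul_inv_cancel_left]
      have hn1 : n = 1 :=
        hCam.fpf (fun hm => hx1 (hdisj x hm hx)) (hcopH x hx) hn hxn
      exact hg (by rw [hn1, one_mul]; exact hc)
    · ext x
      constructor
      · rintro (rfl | hx)
        · exact one_mem N
        · by_contra hxN
          obtain ⟨n, hn, c, hc, rfl⟩ := hfac x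
          have hcN : c ∉ N := fun hm => hxN (mul_mem hn hm)
          obtain ⟨g, hg⟩ := isConj_iff.1 (hCam.conj c hcN (c⁻¹ * n * c)
            (by simpa using hNn.conj_mem _ hn c⁻¹))
          refine hx g ((hmemconj _ g).2 ?_)
          rw [show n * c = c * (c⁻¹ * n * c) by group, ← hg]
          simpa [mul_assoc] using hc
      · intro hx
        by_cases hx1 : x = 1
        · exact Or.inl hx1
        · refine Or.inr fun g hg => hx1 ?_
          rw [hmemconj] at hg
          have h1 := hdisj _ (by simpa using hNn.conj_mem x hx g⁻¹) hg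
          have h2 : g⁻¹ * x * g⁻¹⁻¹ = 1 := by rw [inv_inv]; exact h1
          exact conj_eq_one_iff.1 h2
  · rintro ⟨H, hH, hker, hHcard⟩
    obtain ⟨M, hM, -, hcompl⟩ := CharInt.exists_frobeniusKernel hH
    obtain rfl : M = N := SetLike.coe_injective (hM.trans hker)
    have hidx : M.index = p ^ a - 1 := by
      rw [hcompl.symm.index_eq_card]; omega
    refine le_antisymm (PCore.le_pCore hNp) fun x hx => ?_
    obtain ⟨k, hk⟩ := IsPGroup.iff_orderOf.1 (PCore.isPGroup_pCore (p := p) (G := G)) ⟨x, hx⟩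
    rw [Subgroup.orderOf_mk] at hk
    rw [← QuotientGroup.eq_one_iff, ← orderOf_eq_one_iff]
    refine Nat.eq_one_of_dvd_coprimes (((Nat.coprime_pow_left_iff ha0 _ _).1 hcopq).pow_left k) ?_ ?_
    · rw [← hk]; exact orderOf_map_dvd (QuotientGroup.mk' M) x
    · rw [← hidx, Subgroup.index_eq_card]; exact orderOf_dvd_natCard _

end Cfsg.Agent.Gagola
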