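import Cfsg.Agent.Lib.Frobenius.FixedPointFree
import Cfsg.Agent.Lib.PGroup.UniqueOrderP
import Cfsg.Agent.Lib.Zsigmondy.Basic
import Mathlib.GroupTheory.Nilpotent
import Mathlib.GroupTheory.Solvable

/-!
# Solvable groups transitive on a module with `p`-groups as point stabilisers

Such a group has a normal `p`-complement with abelian factor group (Gagola's lemma, avoiding the
list of solvable transitive linear groups).
-/

set_option autoImplicit false
set_option linter.style.haveILetI false
set_option linter.unusedSectionVars false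

namespace Cfsg.Agent.Gagola

open scoped commutatorElement

variable {Γ V : Type*} [Group Γ] [Finite Γ] [CommGroup V] [Finite V] {p : ℕ} [hp : Fact p.Prime]

/-- The hypotheses: transitive on `V ∖ 1`, faithful, and `p'`-elements act without fixed points. -/
structure PStab (p : ℕ) (ψ : Γ →* MulAut V) : Prop where
  inj : Function.Injective ψ
  exp : ∀ v : V, v ^ p = 1
  nontrivial : Nontrivial V
  trans : ∀ v w : V, v ≠ 1 → w ≠ 1 → ∃ g, ψ g v = w
  free : ∀ g : Γ, (orderOf g).Coprime p → ∀ v : V, v ≠ 1 → ψ g v = v → g = 1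

/-- The conclusion: a normal `p`-complement with abelian factor group. -/
def GoodQuotient (p : ℕ) (Γ : Type*) [Group Γ] : Prop :=
  ∃ K : Subgroup Γ, K.Normal ∧ ¬ p ∣ Nat.card K ∧ (∀ x y : Γ, ⁅x, y⁆ ∈ K) ∧
    ∀ x : Γ, ∃ i : ℕ, x ^ p ^ i ∈ K

theorem coprime_orderOf_of_mem {K : Subgroup Γ} (h : ¬ p ∣ Nat.card K) {x : Γ} (hx : x ∈ K) :
    (orderOf x).Coprime p := by
  refine (hp.out.coprime_iff_not_dvd.2 fun hd => h (hd.trans ?_)).symm
  rw [← Subgroup.orderOf_mk (H := K) x hx]
  exact orderOf_dvd_natCard _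

/-- A normal `p'`-subgroup with abelian quotient is enough. -/
theorem goodQuotient_of (A : Subgroup Γ) [A.Normal] (hA : ¬ p ∣ Nat.card A)
    (hc : ∀ x y : Γ, ⁅x, y⁆ ∈ A) : GoodQuotient p Γ := by
  have hcomm : ∀ a b : Γ ⧸ A, a * b = b * a := by
    intro a b
    obtain ⟨x, rfl⟩ := QuotientGroup.mk_surjective a
    obtain ⟨y, rfl⟩ := QuotientGroup.mk_surjective b
    refine commutatorElement_eq_one_iff_mul_comm.1 ?_
    rw [← QuotientGroup.mk'_apply, ← QuotientGroup.mk'_apply, ← map_commutatorElement,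
      QuotientGroup.mk'_apply, QuotientGroup.eq_one_iff]
    exact hc x y
  letI : CommGroup (Γ ⧸ A) := { (inferInstance : Group (Γ ⧸ A)) with mul_comm := hcomm }
  let T : Subgroup (Γ ⧸ A) :=
    { carrier := {a | ¬ p ∣ orderOf a}
      one_mem' := by simpa using hp.out.one_lt.ne'
      mul_mem' := fun {a b} ha hb h => by
        rcases hp.out.dvd_mul.1 (h.trans ((Commute.all a b).orderOf_mul_dvd_mul_orderOf)) with h | h
        exacts [ha h, hb h]
      inv_mem' := fun {a} ha => by simpa using ha }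
  refine ⟨T.comap (QuotientGroup.mk' A), inferInstance, fun hd => ?_, fun x y => ?_, fun x => ?_⟩
  · obtain ⟨x, hx⟩ := exists_prime_orderOf_dvd_card' p hd
    have hxT : ¬ p ∣ orderOf ((x : Γ) : Γ ⧸ A) := x.2
    have h1 : orderOf ((x : Γ) : Γ ⧸ A) ∣ p := by
      refine (orderOf_map_dvd (QuotientGroup.mk' A) (x : Γ)).trans ?_
      rw [Subgroup.orderOf_coe, hx]
    rcases (Nat.dvd_prime hp.out).1 h1 with h1 | h1
    · rw [orderOf_eq_one_iff, QuotientGroup.eq_one_iff] at h1
      refine hA ?_
      have := orderOf_dvd_natCard (⟨(x : Γ), h1⟩ : A)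
      rwa [Subgroup.orderOf_mk, Subgroup.orderOf_coe, hx] at this
    · exact hxT h1.symm.dvd
  · rw [Subgroup.mem_comap, map_commutatorElement, commutatorElement_eq_one_iff_mul_comm.2 (hcomm _ _)]
    exact T.one_mem
  · set a := ((x : Γ) : Γ ⧸ A)
    obtain ⟨k, r, hr, hord⟩ :=
      Nat.exists_eq_pow_mul_and_not_dvd (orderOf_pos a).ne' p hp.out.ne_one
    refine ⟨k, ?_⟩
    show ¬ p ∣ orderOf (((x ^ p ^ k : Γ)) : Γ ⧸ A)
    rw [QuotientGroup.mk_pow, orderOf_pow, hord, Nat.gcd_mul_right_left,
      Nat.mul_div_cancel_left _ (pow_pos hp.out.pos k)]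
    exact hr

variable {ψ : Γ →* MulAut V}

theorem isPGroup_V (h : PStab p ψ) : IsPGroup p V := fun v => ⟨1, by rw [pow_one, h.exp]⟩

/-- A normal `p`-subgroup is trivial. -/
theorem PStab.eq_bot_of_isPGroup (h : PStab p ψ) {P₀ : Subgroup Γ} [hn : P₀.Normal]
    (hP : IsPGroup p P₀) : P₀ = ⊥ := by
  classical
  haveI := h.nontrivial
  letI : MulAction P₀ V :=
    { smul := fun g v => ψ (g : Γ) v
      one_smul := fun v => by show ψ ((1 : P₀) : Γ) v = v; rw [Subgroup.coe_one, map_one]; rfl
      mul_smul := fun a b v => by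
        show ψ ((a * b : P₀) : Γ) v = ψ (a : Γ) (ψ (b : Γ) v)
        rw [Subgroup.coe_mul, map_mul]; rfl }
  obtain ⟨k, hk⟩ := IsPGroup.iff_card.1 (isPGroup_V h)
  have hpV : p ∣ Nat.card V := by
    rw [hk]; refine dvd_pow_self p fun e => ?_
    have := Finite.one_lt_card (α := V)
    rw [hk, e, pow_zero] at this; omega
  obtain ⟨v, hv, hne⟩ := hP.exists_fixed_point_of_prime_dvd_card_of_fixed_point V hpV
    (a := (1 : V)) fun g => map_one (ψ (g : Γ))
  refine (Subgroup.eq_bot_iff_forall _).2 fun g hg => h.inj ?_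
  refine MulEquiv.ext fun w => ?_
  rw [map_one, MulAut.one_apply]
  rcases eq_or_ne w 1 with rfl | hw
  · exact map_one _
  obtain ⟨c, rfl⟩ := h.trans v w hne.symm hw
  have h1 : ψ (c⁻¹ * g * c) v = v := hv ⟨_, by simpa using hn.conj_mem g hg c⁻¹⟩
  have h2 : ψ g (ψ c v) = ψ c (ψ (c⁻¹ * g * c) v) := by
    rw [← MulAut.mul_apply, ← map_mul, ← MulAut.mul_apply, ← map_mul]
    congr 2
    group
  rw [h2, h1]

/-- The abelian case: a self-centralising cyclic normal `p'`-subgroup. -/
theorem goodQuotient_of_centralizer (A : Subgroup Γ) [hn : A.Normal] [hcyc : IsCyclic A]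
    (hA : ¬ p ∣ Nat.card A) (hC : Subgroup.centralizer (A : Set Γ) ≤ A) : GoodQuotient p Γ := by
  refine goodQuotient_of A hA fun x y => hC ?_
  have hpow : ∀ g : Γ, ∃ m : ℤ, ∀ a ∈ A, g * a * g⁻¹ = a ^ m := by
    intro g
    let f : A →* A := (MulAut.conjNormal g : MulAut A).toMonoidHom
    obtain ⟨m, hm⟩ := MonoidHom.map_cyclic f
    exact ⟨m, fun a ha => by
      have := congrArg Subtype.val (hm ⟨a, ha⟩)
      simpa [f] using this⟩
  have hcc : ∀ a ∈ A, x * (y * a * y⁻¹) * x⁻¹ = y * (x * a * x⁻¹) * y⁻¹ := by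
    intro a ha
    obtain ⟨m, hm⟩ := hpow x
    obtain ⟨k, hk⟩ := hpow y
    rw [hk a ha, hm a ha, hm _ (zpow_mem ha k), hk _ (zpow_mem ha m), ← zpow_mul, ← zpow_mul,
      mul_comm]
  refine Subgroup.mem_centralizer_iff.2 fun a ha => ?_
  have e := hcc ((y * x)⁻¹ * a * (y * x)) (by simpa using hn.conj_mem a ha (y * x)⁻¹)
  rw [commutatorElement_def]
  have e2 : x * y * x⁻¹ * y⁻¹ * a = a * (x * y * x⁻¹ * y⁻¹) := by
    have e3 : x * (y * ((y * x)⁻¹ * a * (y * x)) * y⁻¹) * x⁻¹ =
        (x * y * x⁻¹ * y⁻¹) * a * (x * y * x⁻¹ * y⁻¹)⁻¹ := by group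
    have e4 : y * (x * ((y * x)⁻¹ * a * (y * x)) * x⁻¹) * y⁻¹ = a := by group
    rw [e3, e4] at e
    exact mul_inv_eq_iff_eq_mul.1 e
  exact e2.symm

/-- Otherwise there is a normal quaternion subgroup of order eight. -/
theorem PStab.exists_quaternion (h : PStab p ψ) [Group.IsSolvable Γ] (hnot : ¬ GoodQuotient p Γ) :
    ∃ R : Subgroup Γ, R.Normal ∧ Nat.card R = 8 ∧ ¬ IsMulCommutative R ∧
      (∀ x y : R, orderOf x = 2 → orderOf y = 2 → x = y) ∧ p ≠ 2 := by
  classical
  haveI := h.nontrivial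
  -- maximal abelian normal subgroup
  obtain ⟨A, hA⟩ := (Set.toFinite {B : Subgroup Γ | B.Normal ∧ IsMulCommutative B}).exists_maximal
    ⟨⊥, inferInstance, inferInstance⟩
  obtain ⟨hAn, hAc⟩ := hA.1
  haveI := hAn
  haveI := hAc
  have hp' : ∀ (B : Subgroup Γ) [B.Normal], (∀ P : Sylow p B, (P : Subgroup B).Normal) →
      ¬ p ∣ Nat.card B := by
    intro B _ hB hd
    obtain ⟨P⟩ := (inferInstance : Nonempty (Sylow p B))
    haveI := P.characteristic_of_normal (hB P)
    have h1 := h.eq_bot_of_isPGroup (P₀ := (P : Subgroup B).map B.subtype) (P.isPGroup'.map _)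
    rw [Subgroup.map_eq_bot_iff_of_injective _ B.subtype_injective] at h1
    exact P.ne_bot_of_dvd_card hd h1
  have hAp : ¬ p ∣ Nat.card A := hp' A fun P => ⟨fun a ha g => by
    rwa [mul_comm' g a, mul_inv_cancel_right]⟩
  have hfpf : ∀ B : Subgroup Γ, ¬ p ∣ Nat.card B → Frobenius.Fpf.IsFpf (ψ.comp B.subtype) :=
    fun B hB a ha v hv => by
      by_contra hv1
      exact ha (Subtype.ext (h.free a (coprime_orderOf_of_mem hB a.2) v hv1 hv))
  haveI : IsCyclic A := Frobenius.Fpf.isCyclic_of_comm (hfpf A hAp) fun x y => mul_comm' x y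
  have hCA : ¬ Subgroup.centralizer (A : Set Γ) ≤ A :=
    fun hC => hnot (goodQuotient_of_centralizer A hAp hC)
  obtain ⟨M, hM⟩ := (Set.toFinite {M : Subgroup Γ |
    M.Normal ∧ A ≤ M ∧ M ≤ Subgroup.centralizer (A : Set Γ) ∧ ¬ M ≤ A}).exists_minimal
      ⟨Subgroup.centralizer (A : Set Γ), inferInstance, Subgroup.le_centralizer A, le_rfl, hCA⟩
  obtain ⟨hMn, hAM, hMC, hMA⟩ := hM.1
  haveI := hMn
  have hMbot : M ≠ ⊥ := fun e => hMA (e ▸ bot_le)
  have hD : ⁅M, M⁆ ≤ A := by
    by_contra hcon
    have h1 : A ⊔ ⁅M, M⁆ ≤ M := sup_le hAM (Subgroup.commutator_le_right _ _)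
    have h2 : M ≤ A ⊔ ⁅M, M⁆ := hM.2 ⟨inferInstance, le_sup_left, h1.trans hMC,
      fun e => hcon (le_sup_right.trans e)⟩ h1
    -- `M/A` would be perfect
    have h3 : M.map (QuotientGroup.mk' A) = ⁅M.map (QuotientGroup.mk' A), M.map (QuotientGroup.mk' A)⁆ := by
      rw [← Subgroup.map_commutator]
      conv_lhs => rw [le_antisymm h2 h1]
      rw [Subgroup.map_sup, (Subgroup.map_eq_bot_iff A).2 (QuotientGroup.ker_mk' A).ge, bot_sup_eq]
    have h4 : M.map (QuotientGroup.mk' A) = ⊥ := by
      by_contra hne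
      exact (Group.IsSolvable.commutator_lt_of_ne_bot hne).ne h3.symm
    rw [Subgroup.map_eq_bot_iff, QuotientGroup.ker_mk'] at h4
    exact hMA h4
  have hker : _root_.commutator M ≤ Subgroup.center M := by
    rw [commutator_def, Subgroup.commutator_le]
    intro x _ y _
    refine Subgroup.mem_center_iff.mpr fun n => Subtype.ext ?_
    have h1 : ((⁅x, y⁆ : M) : Γ) ∈ A := hD (by
      rw [show ((⁅x, y⁆ : M) : Γ) = ⁅(x : Γ), (y : Γ)⁆ from rfl]
      exact Subgroup.commutator_mem_commutator x.2 y.2)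
    exact ((Subgroup.mem_centralizer_iff.mp (hMC n.2)) _ h1).symm
  haveI : Group.IsNilpotent M :=
    Subgroup.isNilpotent_of_ker_le_center (Abelianization.of : M →* Abelianization M)
      ((Abelianization.ker_of M).le.trans hker)
  have hMna : ¬ IsMulCommutative M := fun hc => hMA (hA.2 ⟨hMn, hc⟩ hAM)
  obtain ⟨r, hr, P, hPna⟩ : ∃ (r : ℕ) (_ : Fact r.Prime) (P : Sylow r M),
      ¬ IsMulCommutative (P : Subgroup M) := by
    by_contra hcon
    push Not at hcon
    obtain ⟨e⟩ := ((Group.isNilpotent_of_finite_tfae (G := M)).out 0 4).mp ‹_›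
    refine hMna ⟨⟨fun a b => ?_⟩⟩
    apply e.symm.injective
    rw [map_mul, map_mul]
    funext q P
    haveI := hcon q.1 ⟨Nat.prime_of_mem_primeFactors q.2⟩ P
    exact mul_comm' _ _
  have hMp : ¬ p ∣ Nat.card M := hp' M fun P => inferInstance
  haveI : (P : Subgroup M).Characteristic := P.characteristic_of_normal inferInstance
  set R : Subgroup Γ := (P : Subgroup M).map M.subtype
  have eR : (P : Subgroup M) ≃* R := Subgroup.equivMapOfInjective _ _ M.subtype_injective
  have hRr : IsPGroup r R := P.isPGroup'.of_equiv eR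
  have hRp : ¬ p ∣ Nat.card R := fun hd =>
    hMp (hd.trans ((Nat.card_congr eR.toEquiv).symm ▸ Subgroup.card_subgroup_dvd_card _))
  have hRna : ¬ IsMulCommutative R := fun hc => hPna ⟨⟨fun a b => eR.injective (by
    rw [map_mul, map_mul]; exact mul_comm' _ _)⟩⟩
  have huniq := fun (H K : Subgroup R) (hH : Nat.card H = r) (hK : Nat.card K = r) =>
    Frobenius.Fpf.eq_of_card_eq_prime (hfpf R hRp) hRr hH hK
  rcases PGroup.cyclic_or_quaternion_of_unique hRr huniq with hc | ⟨hr2, n, hn, -, ⟨e⟩⟩
  · exact absurd (IsCyclic.isMulCommutative (α := R)) hRna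
  -- the class is two, so `n = 1`
  have hcl : ∀ a b c : R, ⁅a, b⁆ * c = c * ⁅a, b⁆ := fun a b c => by
    apply eR.symm.injective
    rw [map_mul, map_mul, map_commutatorElement]
    have := Subgroup.mem_center_iff.mp (hker (Subgroup.commutator_mem_commutator
      (Subgroup.mem_top ((eR.symm a : (P : Subgroup M)) : M))
      (Subgroup.mem_top ((eR.symm b : (P : Subgroup M)) : M)))) ((eR.symm c : (P : Subgroup M)) : M)
    exact Subtype.ext this.symm
  have hn1 : n = 1 := by
    let x : QuaternionGroup (2 ^ n) := .xa 0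
    let g : QuaternionGroup (2 ^ n) := .a 1
    obtain ⟨c, hc⟩ : ∃ c, e (⁅e.symm x, e.symm g⁆) = c := ⟨_, rfl⟩
    have h1 : c * (g * x) = x * g := by
      rw [← hc, map_commutatorElement, e.apply_symm_apply, e.apply_symm_apply, commutatorElement_def]
      group
    have h2 : c * x = x * c := by
      have := congrArg e (hcl (e.symm x) (e.symm g) (e.symm x))
      rw [map_mul, map_mul, e.apply_symm_apply, hc] at this
      exact this
    have h3 : c = .a (-2) := by
      apply mul_right_cancel (b := g * x)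
      rw [h1]
      simp [g, x]
      ring
    rw [h3] at h2
    simp only [x, QuaternionGroup.a_mul_xa, QuaternionGroup.xa_mul_a, QuaternionGroup.xa.injEq] at h2
    have h4 : ((4 : ℕ) : ZMod (2 * 2 ^ n)) = 0 := by
      push_cast
      linear_combination h2
    rw [ZMod.natCast_eq_zero_iff, ← pow_succ'] at h4
    have h5 : 2 ^ (n + 1) ≤ 2 ^ 2 := Nat.le_of_dvd (by norm_num) h4
    have := (Nat.pow_le_pow_iff_right (by norm_num : 1 < 2)).mp h5
    omega
  subst hn1
  have hcard : Nat.card R = 8 := by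
    rw [Nat.card_congr e.toEquiv]
    simp [Nat.card_eq_fintype_card, QuaternionGroup.card]
  refine ⟨R, inferInstance, hcard, hRna, fun a b ha hb => ?_, fun h2 => hRp (by rw [hcard, h2]; norm_num)⟩
  subst hr2
  haveI : Fintype R := Fintype.ofFinite R
  have := huniq (Subgroup.zpowers a) (Subgroup.zpowers b) (by rw [Nat.card_zpowers, ha])
    (by rw [Nat.card_zpowers, hb])
  obtain ⟨i, hi⟩ := this ▸ Subgroup.mem_zpowers a
  rcases Int.emod_two_eq i with h0 | h0
  · exfalso
    have h1 : a = 1 := by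
      have hi2 : b ^ (i % (orderOf b : ℤ)) = a := (zpow_mod_orderOf b i).trans hi
      rw [hb, Nat.cast_ofNat, h0, zpow_zero] at hi2
      exact hi2.symm
    rw [h1, orderOf_one] at ha
    exact absurd ha (by norm_num)
  · have hi2 : b ^ (i % (orderOf b : ℤ)) = a := (zpow_mod_orderOf b i).trans hi
    rw [hb, Nat.cast_ofNat, h0, zpow_one] at hi2
    exact hi2.symm

/-- An element of prime order at least five centralises a normal quaternion subgroup. -/
theorem commute_of_five_le {R : Subgroup Γ} [hn : R.Normal] (hcard : Nat.card R = 8)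
    (hna : ¬ IsMulCommutative R) (huniq : ∀ x y : R, orderOf x = 2 → orderOf y = 2 → x = y)
    {q : ℕ} (hq : q.Prime) (hq5 : 5 ≤ q) {x : Γ} (hx : orderOf x = q) :
    ∀ r : R, x * r = (r : Γ) * x := by
  classical
  haveI := Fact.mk hq
  haveI := Fact.mk Nat.prime_two
  let f : MulAut R := MulAut.conjNormal x
  have hX : IsPGroup q (Subgroup.zpowers f) := by
    refine IsPGroup.of_card (n := if f = 1 then 0 else 1) ?_
    rw [Nat.card_zpowers]
    split_ifs with hf
    · simp [hf]
    · rw [pow_one]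
      refine orderOf_eq_prime ?_ hf
      show (MulAut.conjNormal x) ^ q = 1
      rw [← map_pow, ← hx, pow_orderOf_eq_one, map_one]
  have hmod := hX.card_modEq_card_fixedPoints R
  rw [hcard] at hmod
  let F : Subgroup R := (f : R →* R).eqLocus (MonoidHom.id R)
  have hF : Nat.card (MulAction.fixedPoints (Subgroup.zpowers f) R) = Nat.card F := by
    refine Nat.card_congr (Equiv.setCongr (Set.ext fun r => ⟨fun h => h ⟨f, Subgroup.mem_zpowers f⟩,
      fun h g => ?_⟩))
    have hst : Subgroup.zpowers f ≤ MulAction.stabilizer (MulAut R) r := Subgroup.zpowers_le.2 h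
    exact hst g.2
  rw [hF] at hmod
  obtain ⟨k, hk, hkc⟩ := (Nat.dvd_prime_pow Nat.prime_two).1
    (show Nat.card F ∣ 2 ^ 3 by rw [show (2 : ℕ) ^ 3 = 8 from rfl, ← hcard]; exact F.card_subgroup_dvd_card)
  rcases Nat.lt_or_ge k 1 with hk0 | hk0
  · -- the involution is fixed
    exfalso
    obtain ⟨z, hz⟩ := exists_prime_orderOf_dvd_card' (G := R) 2 (by rw [hcard]; norm_num)
    have hzF : z ∈ F := huniq _ _ (by rw [← hz]; exact MulEquiv.orderOf_eq f z) hz
    have hF1 : F = ⊥ := F.eq_bot_of_card_eq (by rw [hkc, Nat.lt_one_iff.1 hk0, pow_zero])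
    rw [hF1, Subgroup.mem_bot] at hzF
    rw [hzF, orderOf_one] at hz
    exact absurd hz (by norm_num)
  have hk3 : k = 3 := by
    by_contra hk3
    have hd : q ∣ 8 - Nat.card F := (Nat.modEq_iff_dvd' (by
      rw [hkc]; exact (Nat.pow_le_pow_right (by norm_num) hk).trans (le_refl 8))).1 hmod.symm
    rw [hkc] at hd
    obtain rfl | rfl : k = 1 ∨ k = 2 := by omega
    · have h6 : q ∣ 6 := hd
      have := Nat.le_of_dvd (by norm_num) h6
      have hq56 : q = 5 ∨ q = 6 := by omega
      rcases hq56 with rfl | rfl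
      · norm_num at h6
      · norm_num at hq
    · have h4 : q ∣ 4 := hd
      have := Nat.le_of_dvd (by norm_num) h4
      omega
  have hFtop : F = ⊤ := Subgroup.eq_top_of_card_eq F (by rw [hkc, hk3, hcard]; rfl)
  intro r
  have h1 : f r = r := show r ∈ F from hFtop ▸ Subgroup.mem_top r
  have h2 : x * r * x⁻¹ = (r : Γ) := congrArg Subtype.val h1
  exact mul_inv_eq_iff_eq_mul.1 h2

/-- Automorphisms commuting with an irreducible one commute. -/
theorem comm_of_irreducible {x a b : MulAut V} (hx : a * x = x * a) (hx' : b * x = x * b)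
    (v : V) (hirr : ∀ W : Subgroup V, v ∈ W → (∀ w ∈ W, x w ∈ W) → W = ⊤) : a * b = b * a := by
  let S : Subgroup V :=
    { carrier := {w | ∃ f : V →* V, f v = w ∧ (∀ u, f (x u) = x (f u)) ∧
        ∀ c : V →* V, (∀ u, c (x u) = x (c u)) → ∀ u, f (c u) = c (f u)}
      one_mem' := ⟨1, rfl, fun _ => (map_one x).symm, fun c _ _ => (map_one c).symm⟩
      mul_mem' := fun {_ _} ⟨f, hf, hfx, hfc⟩ ⟨g, hg, hgx, hgc⟩ => ⟨f * g, by rw [← hf, ← hg]; rfl,
        fun u => by rw [MonoidHom.mul_apply, MonoidHom.mul_apply, hfx, hgx, map_mul],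
        fun c hc u => by rw [MonoidHom.mul_apply, MonoidHom.mul_apply, hfc c hc, hgc c hc, map_mul]⟩
      inv_mem' := fun {_} ⟨f, hf, hfx, hfc⟩ => ⟨f⁻¹, by rw [← hf]; rfl,
        fun u => by rw [MonoidHom.inv_apply, MonoidHom.inv_apply, hfx, map_inv],
        fun c hc u => by rw [MonoidHom.inv_apply, MonoidHom.inv_apply, hfc c hc, map_inv]⟩ }
  have hS : S = ⊤ := by
    refine hirr S ⟨MonoidHom.id V, rfl, fun _ => rfl, fun _ _ _ => rfl⟩ ?_
    rintro w ⟨f, hf, hfx, hfc⟩
    exact ⟨(x : V →* V).comp f, congrArg x hf, fun u => congrArg x (hfx u),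
      fun c hc u => by
        show x (f (c u)) = c (x (f u))
        rw [hfc c hc, hc]⟩
  have hax : ∀ u, a (x u) = x (a u) := fun u => DFunLike.congr_fun hx u
  have hbx : ∀ u, b (x u) = x (b u) := fun u => DFunLike.congr_fun hx' u
  refine MulEquiv.ext fun u => ?_
  obtain ⟨f, hf, hfx, hfc⟩ : a v ∈ S := hS ▸ Subgroup.mem_top _
  obtain ⟨g, hg, hgx, hgc⟩ : b v ∈ S := hS ▸ Subgroup.mem_top _
  obtain ⟨k, hk, hkx, hkc⟩ : u ∈ S := hS ▸ Subgroup.mem_top _
  show a (b u) = b (a u)
  rw [← hk]
  have ha : ∀ w, k (a w) = a (k w) := hkc a hax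
  have hb : ∀ w, k (b w) = b (k w) := hkc b hbx
  rw [← hb, ← ha, ← ha, ← hb]
  congr 1
  calc a (b v) = a (g v) := by rw [hg]
    _ = g (a v) := (hgc a hax v).symm
    _ = g (f v) := by rw [hf]
    _ = f (g v) := hgc f hfx v
    _ = f (b v) := by rw [hg]
    _ = b (f v) := hfc b hbx v
    _ = b (a v) := by rw [hf]

theorem PStab.card_stabilizer (h : PStab p ψ) {v : V} (hv : v ≠ 1) (T : Subgroup Γ)
    (hT : ∀ g, g ∈ T ↔ ψ g v = v) :
    IsPGroup p T ∧ Nat.card Γ = (Nat.card V - 1) * Nat.card T := by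
  constructor
  · intro g
    obtain ⟨k, r, hr, hord⟩ :=
      Nat.exists_eq_pow_mul_and_not_dvd (orderOf_pos (g : Γ)).ne' p hp.out.ne_one
    refine ⟨k, Subtype.ext ?_⟩
    refine h.free _ ?_ v hv ((hT _).1 (g ^ p ^ k).2)
    rw [SubmonoidClass.coe_pow, orderOf_pow, hord, Nat.gcd_mul_right_left,
      Nat.mul_div_cancel_left _ (pow_pos hp.out.pos k)]
    exact (hp.out.coprime_iff_not_dvd.2 hr).symm
  · classical
    letI : MulAction Γ V :=
      { smul := fun g v => ψ g v
        one_smul := fun v => by show ψ 1 v = v; rw [map_one]; rfl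
        mul_smul := fun a b v => by show ψ (a * b) v = ψ a (ψ b v); rw [map_mul]; rfl }
    have hst : MulAction.stabilizer Γ v = T := Subgroup.ext fun g => (hT g).symm
    have horb : MulAction.orbit Γ v = ({1} : Set V)ᶜ := Set.ext fun w => ⟨by
      rintro ⟨g, rfl⟩ e
      exact hv ((ψ g).injective ((e : ψ g v = 1).trans (map_one _).symm)),
      fun hw => h.trans v w hv hw⟩
    rw [← hst, ← Subgroup.index_mul_card (MulAction.stabilizer Γ v), MulAction.index_stabilizer,
      horb, Set.ncard_compl, Set.ncard_singleton]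

/-- The main theorem. -/
theorem PStab.goodQuotient (h : PStab p ψ) [Group.IsSolvable Γ] : GoodQuotient p Γ := by
  classical
  by_contra hnot
  obtain ⟨R, hRn, hR8, hRna, huniq, hp2⟩ := h.exists_quaternion hnot
  haveI := hRn
  haveI := h.nontrivial
  obtain ⟨n, hn⟩ := IsPGroup.iff_card.1 (isPGroup_V h)
  have hn0 : n ≠ 0 := fun e => by
    have := Finite.one_lt_card (α := V)
    rw [hn, e, pow_zero] at this; omega
  have hRp : ¬ p ∣ Nat.card R := fun hd => hp2 ((Nat.prime_dvd_prime_iff_eq hp.out Nat.prime_two).1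
    (hp.out.dvd_of_dvd_pow (n := 3) (by rw [hR8] at hd; exact hd)))
  have hRcomm : (∀ a b : R, ψ a * ψ b = ψ b * ψ a) → False := fun hc =>
    hRna ⟨⟨fun a b => Subtype.ext (h.inj (by rw [Subgroup.coe_mul, Subgroup.coe_mul, map_mul, map_mul]; exact hc a b))⟩⟩
  obtain ⟨v, hv⟩ := exists_ne (1 : V)
  let T : Subgroup Γ :=
    { carrier := {g | ψ g v = v}
      one_mem' := by simp
      mul_mem' := fun {a b} ha hb => by
        show ψ (a * b) v = v
        rw [map_mul, MulAut.mul_apply, (hb : ψ b v = v), (ha : ψ a v = v)]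
      inv_mem' := fun {a} ha => by
        show ψ a⁻¹ v = v
        conv_lhs => rw [← (ha : ψ a v = v)]
        rw [← MulAut.mul_apply, ← map_mul, inv_mul_cancel, map_one, MulAut.one_apply] }
  obtain ⟨hTp, hcardΓ⟩ := h.card_stabilizer hv T fun g => Iff.rfl
  rcases Nat.lt_or_ge n 3 with hn3 | hn3
  · rcases (show n = 1 ∨ n = 2 by omega) with rfl | rfl
    · -- automorphisms of a cyclic group commute
      haveI : IsCyclic V := isCyclic_of_prime_card (p := p) (by rw [hn, pow_one])
      refine hRcomm fun a b => MulEquiv.ext fun u => ?_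
      obtain ⟨i, hi⟩ := MonoidHom.map_cyclic (ψ (a : Γ) : V →* V)
      obtain ⟨j, hj⟩ := MonoidHom.map_cyclic (ψ (b : Γ) : V →* V)
      have hi' : ∀ w, ψ (a : Γ) w = w ^ i := hi
      have hj' : ∀ w, ψ (b : Γ) w = w ^ j := hj
      rw [MulAut.mul_apply, MulAut.mul_apply, hj', hi', hi', hj', ← zpow_mul, ← zpow_mul, mul_comm]
    · obtain ⟨k, hk⟩ := IsPGroup.iff_card.1 hTp
      -- the stabiliser acts freely outside the line through `v`
      have hL : Nat.card (Subgroup.zpowers v) = p := by
        rw [Nat.card_zpowers]; exact orderOf_eq_prime (h.exp v) hv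
      have hk1 : k ≤ 1 := by
        by_contra hk2
        obtain ⟨u, hu⟩ : ∃ u : V, u ∉ Subgroup.zpowers v := by
          by_contra! hall
          have h1 := Nat.card_congr (Subgroup.topEquiv (G := V)).toEquiv
          rw [← eq_top_iff.2 fun u _ => hall u, hL, hn] at h1
          have := Nat.pow_lt_pow_right hp.out.one_lt (show 1 < 2 by norm_num)
          rw [pow_one] at this
          omega
        have hinj : Function.Injective fun g : T => ψ (g : Γ) u := by
          intro a b hab
          have hfix : ∀ w : V, ψ ((a : Γ)⁻¹ * b) w = w := by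
            let W : Subgroup V := (ψ ((a : Γ)⁻¹ * b) : V →* V).eqLocus (MonoidHom.id V)
            suffices hW : W = ⊤ from fun w => show w ∈ W from hW ▸ Subgroup.mem_top w
            have hvW : Subgroup.zpowers v ≤ W := Subgroup.zpowers_le.2 ((T.mul_mem (T.inv_mem a.2) b.2))
            have huW : u ∈ W := by
              show ψ ((a : Γ)⁻¹ * b) u = u
              rw [map_mul, MulAut.mul_apply, show ψ (b : Γ) u = ψ (a : Γ) u from hab.symm,
                ← MulAut.mul_apply, ← map_mul, inv_mul_cancel, map_one, MulAut.one_apply]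
            obtain ⟨j, hj, hjc⟩ := (Nat.dvd_prime_pow hp.out).1
              (hn ▸ W.card_subgroup_dvd_card : Nat.card W ∣ p ^ 2)
            rcases Nat.lt_or_ge j 2 with hj2 | hj2
            · exfalso
              refine hu ?_
              rw [Subgroup.eq_of_le_of_card_ge hvW (by
                rw [hL, hjc]; exact (Nat.pow_le_pow_right hp.out.pos (by omega : j ≤ 1)).trans (pow_one p).le)]
              exact huW
            · exact Subgroup.eq_top_of_card_eq W (by rw [hjc, hn, show j = 2 by omega])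
          have h1 : (a : Γ)⁻¹ * b = 1 := h.inj (MulEquiv.ext fun w => by
            rw [hfix, map_one, MulAut.one_apply])
          exact Subtype.ext (inv_mul_eq_one.1 h1)
        have hlt : Nat.card T < Nat.card V := by
          refine lt_of_le_of_ne (Nat.card_le_card_of_injective _ hinj) fun e => ?_
          obtain ⟨g, hg⟩ := ((Nat.bijective_iff_injective_and_card _).2 ⟨hinj, e⟩).2 1
          have hu1 : u = 1 := (ψ (g : Γ)).injective ((hg : ψ (g : Γ) u = 1).trans (map_one _).symm)
          exact hu (hu1 ▸ one_mem _)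
        rw [hk, hn] at hlt
        have := (Nat.pow_lt_pow_iff_right hp.out.one_lt).1 hlt
        omega
      rw [hk] at hcardΓ
      rw [hn] at hcardΓ
      rcases Nat.eq_zero_or_pos k with rfl | hk0
      · -- a `p'`-group
        refine hnot ⟨⊤, inferInstance, ?_, fun _ _ => Subgroup.mem_top _,
          fun x => ⟨0, Subgroup.mem_top _⟩⟩
        rw [Subgroup.card_top, hcardΓ, pow_zero, mul_one]
        intro hd
        have h1 : p ∣ p ^ 2 := dvd_pow_self p (by norm_num)
        have h2 : 1 ≤ p ^ 2 := Nat.one_le_pow _ _ hp.out.pos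
        have h3 := Nat.dvd_sub h1 hd
        rw [show p ^ 2 - (p ^ 2 - 1) = 1 by omega] at h3
        exact hp.out.one_lt.ne' (Nat.dvd_one.1 h3)
      obtain rfl : k = 1 := by omega
      rw [pow_one] at hcardΓ hk
      rcases Nat.lt_or_ge p 5 with hp5 | hp5
      · obtain rfl : p = 3 := by
          have := hp.out.two_le
          rcases (show p = 2 ∨ p = 3 ∨ p = 4 by omega) with e | e | e
          · exact absurd e hp2
          · exact e
          · exact absurd (e ▸ hp.out) (by norm_num)
        have hidx : R.index = 3 := by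
          have h1 := R.card_mul_index
          rw [hR8, hcardΓ] at h1
          norm_num at h1
          omega
        refine hnot (goodQuotient_of R hRp fun x y => ?_)
        haveI : Fact (Nat.Prime 3) := ⟨by norm_num⟩
        haveI : IsCyclic (Γ ⧸ R) := isCyclic_of_prime_card (p := 3) hidx
        rw [← QuotientGroup.eq_one_iff, ← QuotientGroup.mk'_apply, map_commutatorElement,
          commutatorElement_eq_one_iff_mul_comm]
        exact mul_comm' _ _
      · -- the line of an element of order `p` is invariant under `R`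
        obtain ⟨s, hs⟩ := exists_prime_orderOf_dvd_card' (G := T) p (by rw [hk])
        have hso : orderOf (s : Γ) = p := by rw [Subgroup.orderOf_coe, hs]
        have hcm := commute_of_five_le (R := R) hR8 hRna huniq hp.out hp5 hso
        let F : Subgroup V := (ψ (s : Γ) : V →* V).eqLocus (MonoidHom.id V)
        have hFne : F ≠ ⊤ := fun e => by
          have h1 : (s : Γ) = 1 := h.inj (MulEquiv.ext fun w => by
            rw [map_one, MulAut.one_apply]
            exact show w ∈ F from e ▸ Subgroup.mem_top w)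
          rw [h1, orderOf_one] at hso
          exact hp.out.one_lt.ne hso
        have hvF : v ∈ F := s.2
        obtain ⟨j, hj, hjc⟩ := (Nat.dvd_prime_pow hp.out).1
          (hn ▸ F.card_subgroup_dvd_card : Nat.card F ∣ p ^ 2)
        have hFp : Nat.card F = p := by
          have hj1 : j = 1 := by
            rcases (show j = 0 ∨ j = 1 ∨ j = 2 by omega) with rfl | rfl | rfl
            · rw [F.eq_bot_of_card_eq (by rw [hjc, pow_zero]), Subgroup.mem_bot] at hvF
              exact absurd hvF hv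
            · rfl
            · exact absurd (Subgroup.eq_top_of_card_eq F (by rw [hjc, hn])) hFne
          rw [hjc, hj1, pow_one]
        haveI : IsCyclic F := isCyclic_of_prime_card hFp
        have hinv : ∀ r : R, ∀ w ∈ F, ψ (r : Γ) w ∈ F := fun r w hw => by
          show ψ (s : Γ) (ψ (r : Γ) w) = ψ (r : Γ) w
          rw [← MulAut.mul_apply, ← map_mul, hcm r, map_mul, MulAut.mul_apply,
            show ψ (s : Γ) w = w from hw]
        refine hRna ⟨⟨fun a b => ?_⟩⟩
        let res : ∀ r : R, F →* F := fun r => ((ψ (r : Γ) : V →* V).comp F.subtype).codRestrict F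
          fun w => hinv r w w.2
        obtain ⟨i, hi⟩ := MonoidHom.map_cyclic (res a)
        obtain ⟨l, hl⟩ := MonoidHom.map_cyclic (res b)
        have hi' : ∀ w ∈ F, ψ (a : Γ) w = w ^ i := fun w hw => congrArg Subtype.val (hi ⟨w, hw⟩)
        have hl' : ∀ w ∈ F, ψ (b : Γ) w = w ^ l := fun w hw => congrArg Subtype.val (hl ⟨w, hw⟩)
        have h1 : ψ ((b * a : R) : Γ) v = ψ ((a * b : R) : Γ) v := by
          simp only [Subgroup.coe_mul, map_mul, MulAut.mul_apply]
          rw [hi' v hvF, hl' v hvF, hi' _ (zpow_mem hvF l), hl' _ (zpow_mem hvF i), ← zpow_mul,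
            ← zpow_mul, mul_comm]
        have h2 : ψ (((b * a)⁻¹ * (a * b) : R) : Γ) v = v := by
          rw [Subgroup.coe_mul, map_mul, MulAut.mul_apply, ← h1, ← MulAut.mul_apply, ← map_mul,
            ← Subgroup.coe_mul, inv_mul_cancel, Subgroup.coe_one, map_one, MulAut.one_apply]
        have h3 := h.free _ (coprime_orderOf_of_mem hRp ((b * a)⁻¹ * (a * b) : R).2) v hv h2
        exact (inv_mul_eq_one.1 (Subtype.ext h3 : (b * a)⁻¹ * (a * b) = (1 : R))).symm
  · -- a primitive prime divisor of `p ^ n - 1`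
    obtain ⟨q, hq, hqd, hqprim⟩ := Zsigmondy.exists_primitive_prime_divisor p n hp.out.one_lt
      (by omega) (fun e => hp2 e.1) (fun e => by omega)
    haveI := Fact.mk hq
    have hq5 : 5 ≤ q := by
      have hp0 : (p : ZMod q) ≠ 0 := by
        intro e
        rw [ZMod.natCast_eq_zero_iff] at e
        have h2 : 1 ≤ p ^ n := Nat.one_le_pow _ _ hp.out.pos
        have h3 := Nat.dvd_sub (dvd_pow e hn0) hqd
        rw [show p ^ n - (p ^ n - 1) = 1 by omega] at h3
        exact hq.one_lt.ne' (Nat.dvd_one.1 h3)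
      have ho : n ≤ orderOf (p : ZMod q) := by
        by_contra hlt
        have hpos : 0 < orderOf (p : ZMod q) :=
          orderOf_pos_iff.2 (isOfFinOrder_iff_pow_eq_one.2 ⟨q - 1, by have := hq.two_le; omega,
            ZMod.pow_card_sub_one_eq_one hp0⟩)
        refine hqprim _ hpos (by omega) ?_
        rw [← ZMod.natCast_eq_zero_iff, Nat.cast_sub (Nat.one_le_pow _ _ hp.out.pos), Nat.cast_pow,
          pow_orderOf_eq_one, Nat.cast_one, sub_self]
      have h2 : orderOf (p : ZMod q) ≤ q - 1 :=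
        Nat.le_of_dvd (by have := hq.two_le; omega) (ZMod.orderOf_dvd_card_sub_one hp0)
      rcases (show 5 ≤ q ∨ q = 4 by omega) with e | e
      · exact e
      · exact absurd (e ▸ hq) (by norm_num)
    have hqΓ : q ∣ Nat.card Γ := by
      rw [hcardΓ, hn]; exact hqd.trans (dvd_mul_right _ _)
    obtain ⟨x, hx⟩ := exists_prime_orderOf_dvd_card' q hqΓ
    have hqp : q ≠ p := fun e => by
      have h2 : 1 ≤ p ^ n := Nat.one_le_pow _ _ hp.out.pos
      have h3 := Nat.dvd_sub (dvd_pow_self p hn0) (e ▸ hqd)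
      rw [show p ^ n - (p ^ n - 1) = 1 by omega] at h3
      exact hp.out.one_lt.ne' (Nat.dvd_one.1 h3)
    have hcm := commute_of_five_le (R := R) hR8 hRna huniq hq hq5 hx
    refine hRcomm fun a b => comm_of_irreducible (x := ψ x) ?_ ?_ v fun W hvW hW => ?_
    · rw [← map_mul, ← map_mul, hcm a]
    · rw [← map_mul, ← map_mul, hcm b]
    · -- `x` acts without fixed points on `W`
      have hWpow : ∀ i : ℕ, ∀ w ∈ W, ψ (x ^ i) w ∈ W := by
        intro i
        induction i with
        | zero => intro w hw; simpa using hw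
        | succ i ih => intro w hw; rw [pow_succ, map_mul, MulAut.mul_apply]; exact ih _ (hW w hw)
      have hZ : ∀ g ∈ Subgroup.zpowers x, ∃ i : ℕ, x ^ i = g := fun g hg =>
        (mem_powers_iff_mem_zpowers (x := x)).2 hg
      letI : MulAction (Subgroup.zpowers x) W :=
        { smul := fun g w => ⟨ψ (g : Γ) w, by
            obtain ⟨i, hi⟩ := hZ _ g.2
            rw [← hi]; exact hWpow i w w.2⟩
          one_smul := fun w => Subtype.ext (by
            show ψ ((1 : Subgroup.zpowers x) : Γ) (w : V) = w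
            rw [Subgroup.coe_one, map_one]; rfl)
          mul_smul := fun a b w => Subtype.ext (by
            show ψ ((a * b : Subgroup.zpowers x) : Γ) (w : V) = ψ (a : Γ) (ψ (b : Γ) w)
            rw [Subgroup.coe_mul, map_mul]; rfl) }
      have hxp : IsPGroup q (Subgroup.zpowers x) :=
        IsPGroup.of_card (n := 1) (by rw [Nat.card_zpowers, hx, pow_one])
      have hfix : MulAction.fixedPoints (Subgroup.zpowers x) W = {1} := Set.ext fun w => ⟨fun hw => by
        by_contra hne
        have h1 : ψ x (w : V) = w := congrArg Subtype.val (hw ⟨x, Subgroup.mem_zpowers x⟩)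
        have h2 := h.free x (by rw [hx]; exact (Nat.coprime_primes hq hp.out).2 hqp) _
          (fun e => hne (Subtype.ext e)) h1
        rw [h2, orderOf_one] at hx
        exact hq.one_lt.ne hx,
        fun hw g => by rw [Set.mem_singleton_iff] at hw; subst hw; exact Subtype.ext (map_one _)⟩
      have hmod := hxp.card_modEq_card_fixedPoints W
      rw [hfix, Nat.card_coe_set_eq, Set.ncard_singleton] at hmod
      obtain ⟨j, hj, hjc⟩ := (Nat.dvd_prime_pow hp.out).1
        (hn ▸ W.card_subgroup_dvd_card : Nat.card W ∣ p ^ n)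
      rw [hjc] at hmod
      have hj0 : j ≠ 0 := fun e => by
        rw [W.eq_bot_of_card_eq (by rw [hjc, e, pow_zero]), Subgroup.mem_bot] at hvW
        exact hv hvW
      have hjn : j = n := by
        by_contra hne
        exact hqprim j (by omega) (by omega)
          ((Nat.modEq_iff_dvd' (Nat.one_le_pow _ _ hp.out.pos)).1 hmod.symm)
      exact Subgroup.eq_top_of_card_eq W (by rw [hjc, hjn, hn])

end Cfsg.Agent.Gagola
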