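import Cfsg.Agent.Lib.Gagola.Basic
import Cfsg.Agent.Lib.Char.Clifford
import Cfsg.Agent.Lib.Char.Linear
import Mathlib.RingTheory.IntegralClosure.IntegrallyClosed

/-!
# Two-class characters: centralisers and inertia groups in the support are Sylow subgroups
-/

namespace Cfsg.Agent.Gagola

open scoped ComplexConjugate

set_option linter.style.haveILetI false

universe u

variable {G : Type u} [Group G] [Finite G]

theorem eq_supp {χ : IrrCharacter G} (hG : 2 < Nat.card G) (hχ : TwoClasses χ) {N : Subgroup G}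
    (hN : ∀ g : G, g ∈ N ↔ χ.1 g ≠ 0) : N = supp χ := by
  ext g; rw [hN, mem_supp hG hχ]

theorem card_conj_eq {χ : IrrCharacter G} {N : Subgroup G}
    (hG : 2 < Nat.card G) (hχ : TwoClasses χ) (hN : ∀ g : G, g ∈ N ↔ χ.1 g ≠ 0) {x : G}
    (hx : x ∈ N) (hx1 : x ≠ 1) [N.Normal] :
    Nat.card {y : G // IsConj x y} + 1 = Nat.card N := by
  classical
  haveI := Fintype.ofFinite G
  haveI := Fintype.ofFinite N
  have e : {y : G // IsConj x y} ≃ {y : N // y ≠ 1} :=
    { toFun := fun y => ⟨⟨y.1, by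
          obtain ⟨c, hc⟩ := isConj_iff.1 y.2
          exact hc ▸ ‹N.Normal›.conj_mem x hx c⟩, fun h => hx1 (isConj_one_left.1 (by
            have : y.1 = 1 := congrArg Subtype.val h
            exact this ▸ y.2))⟩
      invFun := fun y => ⟨y.1.1, isConj_of_mem_supp hG hχ (eq_supp hG hχ hN ▸ hx)
        (eq_supp hG hχ hN ▸ y.1.2) hx1 fun h => y.2 (Subtype.ext h)⟩
      left_inv := fun _ => rfl
      right_inv := fun _ => rfl }
  rw [Nat.card_congr e, Nat.card_eq_fintype_card, Nat.card_eq_fintype_card,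
    Fintype.card_subtype_compl, Fintype.card_subtype_eq]
  have := Fintype.card_pos (α := N)
  omega

/-- The arithmetic of a two-class character: `χ 1 = p ^ b * (#N - 1)` and
`#G = p ^ (2 * b) * #N * (#N - 1)`. -/
theorem exists_arith {χ : IrrCharacter G} (hG : 2 < Nat.card G) (hχ : TwoClasses χ) {p : ℕ}
    [hp : Fact p.Prime] (N : Subgroup G) [N.Normal] (hN : ∀ g : G, g ∈ N ↔ χ.1 g ≠ 0)
    (hNp : IsPGroup p N) (hN1 : N ≠ ⊥) :
    ∃ a b : ℕ, 0 < a ∧ Nat.card N = p ^ a ∧ charDegree χ.1 = p ^ b * (p ^ a - 1) ∧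
      Nat.card G = p ^ (2 * b) * p ^ a * (p ^ a - 1) ∧
      ∀ x ∈ N, x ≠ 1 → χ.1 x = -(p ^ b : ℂ) := by
  classical
  haveI := Fintype.ofFinite G
  obtain ⟨g₀, hg₀, key, hmc, -⟩ := exists_data hG hχ
  have hg₀N : g₀ ∈ N := (hN _).2 ((key _).2 (Or.inr (IsConj.refl _)))
  set m := Nat.card {x : G // IsConj g₀ x} with hm
  have hmq : m + 1 = Nat.card N := card_conj_eq hG hχ hN hg₀N hg₀
  obtain ⟨a, ha⟩ := IsPGroup.iff_card.1 hNp
  have ha0 : 0 < a := Nat.pos_of_ne_zero fun h => hN1 (N.eq_bot_of_card_eq (by rw [ha, h, pow_zero]))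
  have hm0 : (m : ℂ) ≠ 0 := by
    haveI : Nonempty {x : G // IsConj g₀ x} := ⟨⟨g₀, IsConj.refl _⟩⟩
    exact Nat.cast_ne_zero.2 Nat.card_pos.ne'
  set n := charDegree χ.1 with hn
  have hn1 : χ.1 1 = (n : ℂ) := (Char.charDegree_cast χ).symm
  -- the value at `g₀` is a rational algebraic integer
  obtain ⟨e, he⟩ : ∃ e : ℕ, n = e * m := by
    have hval : χ.1 g₀ = algebraMap ℚ ℂ (-(n : ℚ) / m) := by
      simp [map_div₀]
      rw [eq_div_iff hm0, ← hn1]
      linear_combination hmc
    have hint := CharInt.isIntegral_char (Char.irr_isCharacter χ) g₀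
    rw [hval, isIntegral_algebraMap_iff (algebraMap ℚ ℂ).injective,
      IsIntegrallyClosed.isIntegral_iff] at hint
    obtain ⟨z, hz⟩ := hint
    simp only [eq_intCast] at hz
    have hz' : (z : ℚ) * m = -(n : ℚ) := by
      rw [hz, div_mul_cancel₀]; exact_mod_cast hm0
    have hz'' : (n : ℤ) = (-z) * m := by
      have : ((z * m : ℤ) : ℚ) = ((-(n : ℤ) : ℤ) : ℚ) := by push_cast; exact hz'
      linear_combination (Int.cast_injective this : z * (m : ℤ) = -(n : ℤ))
    refine ⟨(-z).natAbs, ?_⟩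
    have := congrArg Int.natAbs hz''
    simpa [Int.natAbs_mul] using this
  have hval : χ.1 g₀ = -(e : ℂ) := by
    apply mul_left_cancel₀ hm0
    rw [hmc, hn1, he]; push_cast; ring
  -- the norm
  have hnorm : Nat.card G = e * e * m * (m + 1) := by
    have hcf : IsClassFunction G fun g => conj (χ.1 g) := fun a b => by
      simp only [Char.IsCharacter.isClassFunction (Char.irr_isCharacter χ) a b]
    have h1 := Char.classInner_irr_self χ.2
    rw [classInner, sum_mul_eq hg₀ key hcf, inv_mul_eq_one₀ Char.card_ne_zero, hn1, hval] at h1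
    simp only [map_natCast, map_neg] at h1
    rw [← hm, he] at h1
    push_cast at h1
    exact_mod_cast (h1.trans (by ring) : (Nat.card G : ℂ) = (e : ℂ) * e * m * (m + 1))
  have he0 : e ≠ 0 := fun h => (Nat.card_pos (α := G)).ne' (by rw [hnorm, h]; simp)
  have hmne : m ≠ 0 := by exact_mod_cast hm0
  -- `e` is a power of `p`
  have hr : ∀ {r : ℕ}, r.Prime → r ∣ e → r = p := by
    intro r hr hre
    by_contra hne
    haveI := Fact.mk hr
    obtain ⟨R⟩ : Nonempty (Sylow r G) := inferInstance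
    haveI := Fintype.ofFinite (R : Subgroup G)
    have hdis : ∀ g ∈ (R : Subgroup G), g ≠ 1 → χ.1 g = 0 := by
      intro g hg hg1
      by_contra h
      obtain ⟨i, hi⟩ := IsPGroup.iff_orderOf.1 R.isPGroup' ⟨g, hg⟩
      obtain ⟨j, hj⟩ := IsPGroup.iff_orderOf.1 hNp ⟨g, (hN g).2 h⟩
      rw [Subgroup.orderOf_mk] at hi hj
      have h2 : (orderOf g).Coprime (orderOf g) := by
        conv => lhs; rw [hi]
        rw [hj]
        exact Nat.Coprime.pow i j ((Nat.coprime_primes hr hp.out).2 hne)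
      exact hg1 (orderOf_eq_one_iff.1 ((Nat.coprime_self _).1 h2))
    obtain ⟨k, hk⟩ := Char.IsCharacter.exists_nat_classInner
      (Char.IsCharacter.restrict (Char.irr_isCharacter χ) (R : Subgroup G))
      (Char.isCharacter_one (G := (R : Subgroup G)))
    rw [classInner, Finset.sum_eq_single 1 (fun x _ hx => by
      rw [hdis x x.2 (fun h => hx (Subtype.ext h)), zero_mul]) (by simp)] at hk
    simp only [OneMemClass.coe_one, map_one, mul_one, hn1] at hk
    rw [inv_mul_eq_iff_eq_mul₀ Char.card_ne_zero] at hk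
    have hdvd : r ^ (Nat.card G).factorization r ∣ n := by
      rw [← R.card_eq_multiplicity]
      exact ⟨k, by exact_mod_cast hk⟩
    rw [hnorm, he, Nat.mul_assoc _ m, Nat.factorization_mul (by positivity) (by positivity),
      Nat.factorization_mul he0 he0, Nat.factorization_mul hmne (by omega)] at hdvd
    simp only [Finsupp.add_apply] at hdvd
    have h3 := (hr.pow_dvd_iff_le_factorization (by positivity)).1 hdvd
    rw [Nat.factorization_mul he0 hmne, Finsupp.add_apply] at h3
    have := hr.factorization_pos_of_dvd he0 hre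
    omega
  have hb : e = p ^ e.primeFactorsList.length :=
    Nat.eq_prime_pow_of_unique_prime_dvd he0 fun {d} hd hdd => hr hd hdd
  have hm' : m = p ^ a - 1 := by omega
  refine ⟨a, e.primeFactorsList.length, ha0, ha, ?_, ?_, fun x hx hx1 => ?_⟩
  · rw [he, hm', ← hb]
  · rw [hnorm, ← hm', two_mul, pow_add, ← hb, ← ha, ← hmq]; ring
  · rw [← Char.IsClassFunction.apply_of_isConj (Char.IsCharacter.isClassFunction (Char.irr_isCharacter χ))
      (((key x).1 ((hN x).1 hx)).resolve_left hx1), hval]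
    exact_mod_cast congrArg (fun t : ℕ => -(t : ℂ)) hb

theorem exists_sylow_of_index {p : ℕ} [hp : Fact p.Prime] (H : Subgroup G)
    (hH : IsPGroup p H) (hidx : ¬ p ∣ H.index) : ∃ P : Sylow p G, H = P :=
  ⟨hH.toSylow hidx, rfl⟩

/-- A subgroup of index `#N - 1` is a Sylow subgroup. -/
theorem isSylow_of_index {χ : IrrCharacter G} (hG : 2 < Nat.card G) (hχ : TwoClasses χ) {p : ℕ}
    [hp : Fact p.Prime] (N : Subgroup G) [N.Normal] (hN : ∀ g : G, g ∈ N ↔ χ.1 g ≠ 0)
    (hNp : IsPGroup p N) (hN1 : N ≠ ⊥) (H : Subgroup G) (hH : H.index + 1 = Nat.card N) :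
    ∃ P : Sylow p G, H = P := by
  obtain ⟨a, b, ha0, ha, -, hG', -⟩ := exists_arith hG hχ N hN hNp hN1
  have hi : H.index = p ^ a - 1 := by omega
  have hp1 : 1 < p ^ a := Nat.one_lt_pow ha0.ne' hp.out.one_lt
  have hc := H.card_mul_index
  rw [hG', hi] at hc
  refine exists_sylow_of_index H (IsPGroup.iff_card.2 ⟨2 * b + a, ?_⟩) ?_
  · rw [pow_add]
    exact Nat.eq_of_mul_eq_mul_right (by omega) hc
  · rw [hi]
    intro h
    obtain ⟨c, hc'⟩ := h
    obtain ⟨d, hd⟩ := dvd_pow_self p ha0.ne'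
    have h1 : p ∣ 1 := by
      have e : p * c + 1 = p * d := by omega
      exact (Nat.dvd_add_right (dvd_mul_right p c)).1 (e ▸ dvd_mul_right p d)
    exact hp.out.one_lt.ne' (Nat.dvd_one.1 h1)

theorem centralizer_isSylow {χ : IrrCharacter G} (hG : 2 < Nat.card G) (hχ : TwoClasses χ) {p : ℕ}
    [hp : Fact p.Prime] (N : Subgroup G) [N.Normal] (hN : ∀ g : G, g ∈ N ↔ χ.1 g ≠ 0)
    (hNp : IsPGroup p N) (hN1 : N ≠ ⊥) {x : G} (hx : x ∈ N) (hx1 : x ≠ 1) :
    ∃ P : Sylow p G, Subgroup.centralizer ({x} : Set G) = P := by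
  haveI := Fintype.ofFinite G
  refine isSylow_of_index hG hχ N hN hNp hN1 _ ?_
  rw [← card_conj_eq hG hχ hN hx hx1]
  congr 1
  refine Nat.eq_of_mul_eq_mul_left (Nat.card_pos (α := Subgroup.centralizer ({x} : Set G))) ?_
  rw [Subgroup.card_mul_index, Char.card_centralizer_mul_card_conj]

/-- The inertia group of a non-principal irreducible character of the support is a Sylow subgroup. -/
theorem inertia_isSylow {χ : IrrCharacter G} (hG : 2 < Nat.card G) (hχ : TwoClasses χ) {p : ℕ}
    [hp : Fact p.Prime] (N : Subgroup G) [N.Normal] (hN : ∀ g : G, g ∈ N ↔ χ.1 g ≠ 0)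
    (hNp : IsPGroup p N) (hN1 : N ≠ ⊥) (μ : IrrCharacter N) (hμ : μ ≠ Char.trivialChar N) :
    ∃ P : Sylow p G, ∀ g : G, g ∈ (P : Subgroup G) ↔ Char.conjFun N μ.1 g = μ.1 := by
  classical
  haveI := Fintype.ofFinite G
  haveI := Fintype.ofFinite N
  obtain ⟨a, b, ha0, ha, hdeg, -, hval⟩ := exists_arith hG hχ N hN hNp hN1
  have hsupp := eq_supp hG hχ hN
  have hab : ∀ u v : N, u * v = v * u := by
    obtain ⟨q, hq, hE⟩ := exists_prime_supp hG hχ
    rw [← hsupp] at hE
    exact hE.1.1.1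
  have hp1 : 1 ≤ p ^ a := Nat.one_le_pow _ _ hp.out.pos
  have hcon : ∀ η : IrrCharacter N, η ≠ Char.trivialChar N →
      classInner (Char.resFun N χ.1) η.1 ≠ 0 := by
    intro η hη h0
    have hη1 : η.1 1 = 1 := Char.apply_one_of_comm hab η
    have hs : ∑ n : N, conj (η.1 n) = 0 := by
      rw [← map_sum, Char.sum_apply_eq_zero hη, map_zero]
    simp only [classInner, Char.resFun_apply, mul_eq_zero, inv_eq_zero, Char.card_ne_zero,
      false_or] at h0
    rw [← Finset.add_sum_erase _ _ (Finset.mem_univ (1 : N))] at h0 hs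
    rw [Finset.sum_congr rfl fun n hn => by
      rw [hval n n.2 (fun h => Finset.ne_of_mem_erase hn (Subtype.ext h))], ← Finset.mul_sum] at h0
    simp only [OneMemClass.coe_one, hη1, map_one, ← Char.charDegree_cast, hdeg] at h0 hs
    have h1 : (Finset.univ.erase (1 : N)).sum (fun n => conj (η.1 n)) = -1 := by
      linear_combination hs
    rw [h1] at h0
    push_cast [hp1] at h0
    have : ((p : ℂ) ^ b) * (p : ℂ) ^ a = 0 := by linear_combination h0
    simp [hp.out.ne_zero] at this
  have hirr : Fintype.card (IrrCharacter N) = Nat.card N := by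
    rw [← Nat.card_eq_fintype_card, Char.card_irr]
    refine (Nat.card_congr (Equiv.ofBijective ConjClasses.mk ⟨fun u v huv => ?_,
      ConjClasses.mk_surjective⟩)).symm
    obtain ⟨c, hc⟩ := isConj_iff.1 (ConjClasses.mk_eq_mk_iff_isConj.1 huv)
    rwa [hab c u, mul_inv_cancel_right] at hc
  have horb : Char.orbitFinset N μ = Finset.univ.erase (Char.trivialChar N) := by
    ext η
    rw [Char.mem_orbitFinset, Finset.mem_erase]
    refine ⟨?_, fun h => Char.exists_conjChar_of_constituents N χ μ η (hcon μ hμ) (hcon η h.1)⟩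
    rintro ⟨g, rfl⟩
    refine ⟨fun h => hμ (Subtype.ext ?_), Finset.mem_univ _⟩
    have h2 := (Char.conjFun_eq_iff N μ.1 (Char.trivialChar N).1 g).1 (congrArg Subtype.val h)
    rw [← h2]; funext n; rfl
  let I : Subgroup G :=
    { carrier := {g | Char.conjFun N μ.1 g = μ.1}
      one_mem' := Char.conjFun_one N μ.1
      mul_mem' := fun {x y} hx hy => by
        show Char.conjFun N μ.1 (x * y) = μ.1
        rw [Char.conjFun_mul, hx, hy]
      inv_mem' := fun {x} hx => by
        show Char.conjFun N μ.1 x⁻¹ = μ.1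
        exact (Char.conjFun_eq_iff N μ.1 μ.1 x).1 hx }
  have hcount : Nat.card G = (Char.orbitFinset N μ).card * Nat.card I := by
    rw [Nat.card_eq_fintype_card, ← Finset.card_univ,
      Finset.card_eq_sum_card_fiberwise (f := Char.conjChar N μ) (t := Char.orbitFinset N μ)
        (fun g _ => (Char.mem_orbitFinset N).2 ⟨g, rfl⟩),
      Finset.sum_eq_card_nsmul (fun η hη => ?_), smul_eq_mul]
    obtain ⟨g, rfl⟩ := (Char.mem_orbitFinset N).1 hη
    rw [Nat.card_eq_fintype_card, ← Fintype.card_subtype]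
    refine Fintype.card_congr
      { toFun := fun x => ⟨x.1 * g⁻¹, ?_⟩
        invFun := fun i => ⟨i.1 * g, ?_⟩
        left_inv := fun x => Subtype.ext (inv_mul_cancel_right x.1 g)
        right_inv := fun i => Subtype.ext (mul_inv_cancel_right i.1 g) }
    · show Char.conjFun N μ.1 (x.1 * g⁻¹) = μ.1
      rw [Char.conjFun_mul, show Char.conjFun N μ.1 x.1 = Char.conjFun N μ.1 g from
        congrArg Subtype.val x.2, ← Char.conjFun_mul, mul_inv_cancel, Char.conjFun_one]
    · exact Subtype.ext (by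
        show Char.conjFun N μ.1 (i.1 * g) = Char.conjFun N μ.1 g
        rw [Char.conjFun_mul, i.2])
  have hidx : I.index + 1 = Nat.card N := by
    have h1 : I.index = (Char.orbitFinset N μ).card :=
      Nat.eq_of_mul_eq_mul_left (Nat.card_pos (α := I)) (by rw [Subgroup.card_mul_index, hcount, mul_comm])
    rw [h1, horb, Finset.card_erase_of_mem (Finset.mem_univ _), Finset.card_univ, hirr]
    have := Nat.card_pos (α := N)
    omega
  obtain ⟨P, hP⟩ := isSylow_of_index hG hχ N hN hNp hN1 I hidx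
  exact ⟨P, fun g => hP ▸ Iff.rfl⟩

end Cfsg.Agent.Gagola
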